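import Cfsg.Agent.Helper25.BRDefs
import Cfsg.Agent.S4706

/-!
helper19, piece (GT6) of helper25's S0999/S4701: the endgame. A simple group in the configuration `Config p 2 t 0`
with exactly `p` Sylow `2`-subgroups acts faithfully on them; its Sylow `p`-normalizer has order `2p`, so S4706
identifies it with `SL₂(2^m)`, `p = 2^m + 1`.
-/

set_option autoImplicit false

namespace Cfsg.Agent.Helper19.BR

open Cfsg Cfsg.Agent.Helper25.BR

universe u

variable {G : Type u} [Group G] [Finite G] {p e t : ℕ} [Fact p.Prime] {P : Sylow p G}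

/-- (GT6) the endgame via S4706 -/
theorem gt6 [IsSimpleGroup G] (h : Config p e t 0 P) (h5 : Nat.card (Sylow 2 G) = p) :
    ∃ (m : ℕ) (F : Type) (_ : Field F) (_ : Fintype F), Fintype.card F = 2 ^ m ∧ p = 2 ^ m + 1 ∧
      3 < p ∧ Nonempty (G ≃* Matrix.SpecialLinearGroup (Fin 2) F) := by
  classical
  have he : e = 2 := by have := h.hek; omega
  have het := h.het
  have ht := h.ht
  rw [he] at het
  have hp7 : 7 ≤ p := by omega
  -- the action on the Sylow 2-subgroups
  have : Fintype (Sylow 2 G) := Fintype.ofFinite _
  have hα : Fintype.card (Sylow 2 G) = p := by rw [← Nat.card_eq_fintype_card]; exact h5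
  let φ : G →* Equiv.Perm (Sylow 2 G) := MulAction.toPermHom G (Sylow 2 G)
  have hinj : Function.Injective φ := by
    rw [← MonoidHom.ker_eq_bot_iff]
    rcases (φ.normal_ker).eq_bot_or_eq_top with h0 | h0
    · exact h0
    · exfalso
      have hfix : ∀ (g : G) (S : Sylow 2 G), g • S = S := by
        intro g S
        have hg : g ∈ φ.ker := by rw [h0]; trivial
        have : φ g = 1 := hg
        have h1 : (φ g) S = S := by rw [this]; rfl
        exact h1
      have hsub : Subsingleton (Sylow 2 G) := by
        refine ⟨fun S T => ?_⟩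
        obtain ⟨g, hg⟩ := MulAction.exists_smul_eq G S T
        rw [← hg, hfix]
      have := Fintype.card_le_one_iff_subsingleton.mpr hsub
      omega
  let f : G ≃* φ.range := MonoidHom.ofInjective hinj
  -- transport the Sylow `p`-subgroup
  let P' : Sylow p φ.range := P.comapOfInjective f.symm.toMonoidHom f.symm.injective (by
    intro x _
    exact ⟨f x, by simp⟩)
  have hP' : (P' : Subgroup φ.range) = (P : Subgroup G).comap f.symm.toMonoidHom := rfl
  have hcard_comap : ∀ K : Subgroup G, Nat.card (K.comap f.symm.toMonoidHom) = Nat.card K := by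
    intro K
    refine Nat.card_congr
      { toFun := fun x => ⟨f.symm x, x.2⟩
        invFun := fun y => ⟨f y, by
          show f.symm (f y) ∈ K
          rw [MulEquiv.symm_apply_apply]
          exact y.2⟩
        left_inv := fun x => by
          apply Subtype.ext
          show f (f.symm x) = x
          rw [MulEquiv.apply_symm_apply]
        right_inv := fun y => by
          apply Subtype.ext
          show f.symm (f y) = y
          rw [MulEquiv.symm_apply_apply] }
  have hN : Nat.card (Subgroup.normalizer ((P' : Subgroup φ.range) : Set φ.range)) = 2 * p := by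
    rw [hP', ← Subgroup.comap_normalizer_eq_of_surjective _ f.symm.surjective, hcard_comap, h.cardN, he,
      mul_comm]
  have hcardG' : Nat.card φ.range = p * (p - 1) * (p - e) := by
    rw [← h.cardG]
    exact (Nat.card_congr f.toEquiv).symm
  rcases Cfsg.Agent.S4706.result (α := Sylow 2 G) (p := p) (by omega) hα φ.range P' hN with hnorm | hiso
  · exfalso
    have htop : Subgroup.normalizer ((P' : Subgroup φ.range) : Set φ.range) = ⊤ :=
      Subgroup.normalizer_eq_top_iff.mpr hnorm
    rw [htop, Subgroup.card_top, hcardG', he] at hN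
    have h1 : 6 ≤ p - 1 := by omega
    have h2 : 5 ≤ p - 2 := by omega
    have h3 : p * 6 * 5 ≤ p * (p - 1) * (p - 2) := by
      apply Nat.mul_le_mul (Nat.mul_le_mul le_rfl h1) h2
    omega
  · obtain ⟨a, F, i1, i2, hpa, hF, ⟨g⟩⟩ := hiso
    exact ⟨a, F, i1, i2, hF, hpa, by omega, ⟨f.trans g⟩⟩

end Cfsg.Agent.Helper19.BR
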