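import Mathlib
import Cfsg.Agent.Helper61.SL2Char2

/-!
helper19, piece (C2) of helper25's S0999/S4701: `SL₂(F) ≃* PSL₂(F)` over a field with `2^m` elements.
-/

set_option autoImplicit false

namespace Cfsg.Agent.Helper19.BR

theorem charP_two_of_card {F : Type*} [Field F] [Fintype F] (m : ℕ) (hm : 1 ≤ m)
    (hF : Fintype.card F = 2 ^ m) : CharP F 2 := by
  obtain ⟨p, hp⟩ := CharP.exists F
  have hpr : p.Prime := CharP.char_is_prime F p
  obtain ⟨n, -, hn⟩ := FiniteField.card F p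
  have h1 : p ∣ 2 ^ m := by
    rw [← hF, hn]
    exact dvd_pow_self p (PNat.ne_zero n)
  have h2 : p = 2 := (Nat.prime_dvd_prime_iff_eq hpr Nat.prime_two).mp (hpr.dvd_of_dvd_pow h1)
  rw [← h2]
  exact hp

theorem sl2_equiv_psl2 (m : ℕ) (hm : 1 ≤ m) (F : Type) [Field F] [Fintype F]
    (hF : Fintype.card F = 2 ^ m) :
    Nonempty (Matrix.SpecialLinearGroup (Fin 2) F ≃*
      Matrix.ProjectiveSpecialLinearGroup (Fin 2) F) := by
  have : CharP F 2 := charP_two_of_card m hm hF
  have h := Cfsg.Agent.Helper61.center_SL2_eq_bot F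
  exact ⟨(QuotientGroup.quotientBot (G := Matrix.SpecialLinearGroup (Fin 2) F)).symm.trans
    (QuotientGroup.quotientMulEquivOfEq h.symm)⟩

end Cfsg.Agent.Helper19.BR
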