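import Cfsg.Agent.Helper18.E8Odd.Defs
import Cfsg.Agent.Helper89.G2InvR1
import Cfsg.Agent.Helper72.G2InvR2
import Cfsg.Agent.Helper72.G2InvFF1
import Cfsg.Agent.Helper89.G2InvFF2
import Cfsg.Agent.S1025
import Cfsg.Agent.Helper60.E8Inv_FL
import Cfsg.Agent.Helper10.E8Inv_CJ

/-!
helper19: piece (AL) `adj_square` of the E8INV-1 farm #14274 (architect helper18, S4281): an involution `m = k n_w` of `E₈(F)`
(`|F|` odd) with `w α_i = -α_i`, `w α_j = -α_j`, `i ~ j`, is conjugate to an involution `k' n_w` which is a square at `α_i` or at `α_j`.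
Port of `Cfsg.Agent.Helper36.F4Odd.adj_square_hedge`; the explicit signs of the `F₄` proof are replaced by the signs `η = ±1` which
`monomial_conj` / `nW_conj` provide (only `η² = 1` is used), so no structure constant is needed.
-/

set_option autoImplicit false
set_option maxRecDepth 100000

namespace Cfsg.Agent.Helper19.E8Inv

open Cfsg Cfsg.Lie Cfsg.Agent.Helper18 Cfsg.Agent.Helper18.E8Odd Cfsg.Agent.Helper36.E8Odd Cfsg.Agent.Helper40.SL2Hom

/-- the data on the 14 ordered pairs of adjacent fundamental roots -/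
theorem AL_data : ∀ i j : Fin 8, Adj i.val j.val →
    sr i.val < 240 ∧ sr j.val < 240 ∧ aW [i.val] (sr j.val) < 240 ∧ aW [i.val] (aW [i.val] (sr j.val)) = sr j.val ∧
    aW [i.val] (239 - aW [i.val] (sr j.val)) = 239 - sr j.val ∧ pairing' chevE8 (sr i.val) (sr j.val) = -1 ∧
    ∀ l : Fin chevE8.rank, chevE8.cartan l.val (239 - aW [i.val] (sr j.val)) =
      chevE8.cartan l.val (239 - sr i.val) + chevE8.cartan l.val (239 - sr j.val) := by
  decide +kernel

section
variable {F : Type*} [Field F]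

theorem AL_chr_add (c : Fin chevE8.rank → Fˣ) (a b p : ℕ)
    (hadd : ∀ l : Fin chevE8.rank, chevE8.cartan l.val p = chevE8.cartan l.val a + chevE8.cartan l.val b) :
    chr p c = chr a c * chr b c := by
  unfold chr
  rw [← Finset.prod_mul_distrib]
  apply Finset.prod_congr rfl
  intro l _
  rw [hadd l, zpow_add]

theorem AL_sign_sq (η : F) (h : η = 1 ∨ η = -1) : η * η = 1 := by
  rcases h with rfl | rfl <;> ring

theorem AL_sign_ne (η : F) (h : η = 1 ∨ η = -1) : η ≠ 0 := by
  intro h0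
  have := AL_sign_sq η h
  rw [h0, mul_zero] at this
  exact zero_ne_one this

theorem AL_isSquare_sign (hm1 : IsSquare (-1 : F)) (η : F) (h : η = 1 ∨ η = -1) : IsSquare η := by
  rcases h with rfl | rfl
  · exact ⟨1, by simp⟩
  · exact hm1

/-- (AL) -/
theorem adj_square [Fintype F] (hF : Odd (Fintype.card F)) (w : List ℕ) (hw : ∀ i ∈ w, i < 8) (i j : ℕ) (hadj : Adj i j)
    (h1 : aW w (sr i) = 239 - sr i) (h2 : aW w (sr j) = 239 - sr j)
    (h3 : aW w (aW [i] (sr j)) = 239 - aW [i] (sr j))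
    (hcomm : ∀ x < 240, aW (i :: (w ++ [i])) x = aW w x)
    (c : Fin chevE8.rank → Fˣ) (hmm : (tor c * nW w) * (tor c * nW w) = 1) :
    ∃ c' : Fin chevE8.rank → Fˣ, ConjG (tor c * nW w) (tor c' * nW w) ∧
      (SqAt (tor c' * nW w) (sr i) ∨ SqAt (tor c' * nW w) (sr j)) := by
  have hi : i < 8 := hadj.1
  have hj : j < 8 := hadj.2.1
  obtain ⟨da, db, dp, d1, d2, d4, d5⟩ := AL_data ⟨i, hi⟩ ⟨j, hj⟩ hadj
  simp only at da db dp d1 d2 d4 d5
  have d3 : ∀ k ∈ [i], k < 8 := by
    intro k hk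
    rw [List.mem_singleton] at hk
    rw [hk]; exact hi
  set a : ℕ := sr i with ha
  set b : ℕ := sr j with hb
  set p : ℕ := aW [i] b with hp
  set m : GL chevE8.Idx F := tor c * nW w with hm
  -- the action of `m` on the three root groups
  obtain ⟨-, ηa, hηa, Ha⟩ := monomial_conj (F := F) c w hw a da
  obtain ⟨-, ηb, hηb, Hb⟩ := monomial_conj (F := F) c w hw b db
  obtain ⟨-, ηp, hηp, Hp⟩ := monomial_conj (F := F) c w hw p dp
  rw [← (aW_eq_rho w hw a da).1, h1] at Ha
  rw [← (aW_eq_rho w hw b db).1, h2] at Hb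
  rw [← (aW_eq_rho w hw p dp).1, h3] at Hp
  rw [← hm] at Ha Hb Hp
  set ca : F := ((chr (239 - a) c : Fˣ) : F) * ηa with hca
  set cb : F := ((chr (239 - b) c : Fˣ) : F) * ηb with hcb
  set cp : F := ((chr (239 - p) c : Fˣ) : F) * ηp with hcp
  have sa := AL_sign_sq ηa hηa
  have sb := AL_sign_sq ηb hηb
  have sp := AL_sign_sq ηp hηp
  have hnea : ca ≠ 0 := mul_ne_zero (Units.ne_zero _) (AL_sign_ne ηa hηa)
  have hneb : cb ≠ 0 := mul_ne_zero (Units.ne_zero _) (AL_sign_ne ηb hηb)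
  have hnep : cp ≠ 0 := mul_ne_zero (Units.ne_zero _) (AL_sign_ne ηp hηp)
  -- the easy cases
  by_cases hsqa : IsSquare ca
  · obtain ⟨e, he⟩ := hsqa
    refine ⟨c, ConjG.refl _, Or.inl ⟨e, ?_, fun t => ?_⟩⟩
    · rintro rfl
      rw [mul_zero] at he
      exact hnea he
    · rw [Ha t, he]
  by_cases hsqb : IsSquare cb
  · obtain ⟨e, he⟩ := hsqb
    refine ⟨c, ConjG.refl _, Or.inr ⟨e, ?_, fun t => ?_⟩⟩
    · rintro rfl
      rw [mul_zero] at he
      exact hneb he
    · rw [Hb t, he]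
  by_cases hm1 : IsSquare (-1 : F)
  · -- `-1` is a square: conjugate by `n_a`
    have hprod : IsSquare (ca * cb) := Cfsg.Agent.Helper89.G2Inv.isSquare_mul_of_not_isSquare hF hsqa hsqb
    have hz : IsSquare (ηa * ηb * ηp) :=
      ((AL_isSquare_sign hm1 ηa hηa).mul (AL_isSquare_sign hm1 ηb hηb)).mul (AL_isSquare_sign hm1 ηp hηp)
    have ep : cp = (ca * cb) * (ηa * ηb * ηp) := by
      rw [hcp, hca, hcb, AL_chr_add c (239 - a) (239 - b) (239 - p) d5]
      push_cast
      linear_combination (-(((chr (239 - a) c : Fˣ) : F) * ((chr (239 - b) c : Fˣ) : F) * ηp * ηb * ηb)) * sa -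
        (((chr (239 - a) c : Fˣ) : F) * ((chr (239 - b) c : Fˣ) : F) * ηp) * sb
    have hsqp : IsSquare cp := by
      rw [ep]
      exact hprod.mul hz
    -- the conjugate
    obtain ⟨k', hk', econj⟩ := Cfsg.Agent.Helper10.E8Inv.conj_to_std (F := F) w [i] w hw d3 hw
      (fun x hx => by
        have : [i] ++ w ++ [i].reverse = i :: (w ++ [i]) := by simp
        rw [this]
        exact hcomm x hx) (tor c) (tor_mem c)
    obtain ⟨c', rfl⟩ := (mem_diagonal_iff k').mp hk'
    rw [← hm] at econj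
    refine ⟨c', ⟨nW [i], monomial_le_group (nW_mem [i] d3), econj⟩, Or.inr ?_⟩
    rw [← econj]
    -- the action on `X_b`
    obtain ⟨-, η1, hη1, A1⟩ := nW_conj (F := F) [i] d3 p dp
    obtain ⟨-, η2, hη2, A2⟩ := nW_conj (F := F) [i] d3 (239 - p) (by omega)
    rw [← (aW_eq_rho [i] d3 p dp).1, d1] at A1
    rw [← (aW_eq_rho [i] d3 (239 - p) (by omega)).1, d2] at A2
    have t1 := AL_sign_sq η1 hη1
    have t2 := AL_sign_sq η2 hη2
    have hσ : IsSquare (η2 * η1) := (AL_isSquare_sign hm1 η2 hη2).mul (AL_isSquare_sign hm1 η1 hη1)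
    obtain ⟨f, hf⟩ := hsqp.mul hσ
    have hf0 : f ≠ 0 := by
      rintro rfl
      rw [mul_zero] at hf
      rcases mul_eq_zero.mp hf with h | h
      · exact hnep h
      · rcases mul_eq_zero.mp h with h | h
        · exact AL_sign_ne η2 hη2 h
        · exact AL_sign_ne η1 hη1 h
    refine ⟨f, hf0, fun t => ?_⟩
    have B1 : (nW [i])⁻¹ * X b t * nW [i] = X p (η1 * t) := by
      have := A1 (η1 * t)
      rw [← mul_assoc, t1, one_mul] at this
      rw [← this]
      group
    calc nW [i] * m * (nW [i])⁻¹ * X b t * (nW [i] * m * (nW [i])⁻¹)⁻¹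
        = nW [i] * (m * ((nW [i])⁻¹ * X b t * nW [i]) * m⁻¹) * (nW [i])⁻¹ := by group
      _ = X (239 - b) (η2 * (cp * (η1 * t))) := by
        rw [B1, Hp, A2]
      _ = X (239 - b) (f * f * t) := by
        rw [← hf]
        congr 1
        ring
  · -- `-1` is not a square: the flip
    have hinv : ¬ IsSquare ca⁻¹ := by
      rintro ⟨r, hr⟩
      apply hsqa
      refine ⟨r⁻¹, ?_⟩
      rw [← mul_inv, ← hr, inv_inv]
    obtain ⟨f, hf⟩ := Cfsg.Agent.Helper89.G2Inv.isSquare_mul_of_not_isSquare hF hm1 hinv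
    have hf0 : f ≠ 0 := by
      rintro rfl
      rw [mul_zero] at hf
      rcases mul_eq_zero.mp hf with h | h
      · exact neg_ne_zero.mpr one_ne_zero h
      · exact inv_ne_zero hnea h
    have hc : ca * (f * f) = -1 := by
      rw [← hf]
      field_simp
    have hfl := Cfsg.Agent.Helper60.E8Inv.flip_reduce hF a da m hmm ca f hf0 hc (fun t => Ha t)
    have hk2 : nW w * hh a (-1 : F) * (nW w)⁻¹ ∈ chevE8.diagonalSubgroup F :=
      conj_mem_diagonal _ _ (nW_mem w hw) (hh_mem_diagonal a da _ (neg_ne_zero.mpr one_ne_zero))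
    obtain ⟨c', hc'⟩ := (mem_diagonal_iff _).mp (mul_mem (tor_mem c) hk2)
    have em : m * hh a (-1 : F) = tor c' * nW w := by
      rw [← hc', hm]
      group
    refine ⟨c', ?_, Or.inr ?_⟩
    · rw [← em]; exact hfl
    · rw [← em]
      obtain ⟨g, hg⟩ := Cfsg.Agent.Helper89.G2Inv.isSquare_mul_of_not_isSquare hF hm1 hsqb
      have hg0 : g ≠ 0 := by
        rintro rfl
        rw [mul_zero] at hg
        rcases mul_eq_zero.mp hg with h | h
        · exact neg_ne_zero.mpr one_ne_zero h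
        · exact hneb h
      refine ⟨g, hg0, fun t => ?_⟩
      have B := hh_conj (F := F) a b da db (-1) t (neg_ne_zero.mpr one_ne_zero)
      rw [d4] at B
      have e1 : ((-1 : F)) ^ (-1 : ℤ) = -1 := by
        rw [zpow_neg_one, inv_neg_one]
      rw [e1] at B
      calc m * hh a (-1 : F) * X b t * (m * hh a (-1 : F))⁻¹
          = m * (hh a (-1 : F) * X b t * (hh a (-1 : F))⁻¹) * m⁻¹ := by group
        _ = X (239 - b) (cb * (-1 * t)) := by rw [B, Hb]
        _ = X (239 - b) (g * g * t) := by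
          rw [← hg]
          congr 1
          ring

end

end Cfsg.Agent.Helper19.E8Inv
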