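import Mathlib

/-!
helper19, pieces (ARodd), (ARplus), (ARminus) of helper44's S5981: the arithmetic of the index of the orthogonal
group in `SL_n(q)` at a prime `r` for which `q` has even order modulo `r`.
-/

set_option autoImplicit false

namespace Cfsg.Agent.Helper19.QSim

/-- splitting a product over `range (k + k)` into even and odd indices -/
theorem prod_range_even_odd (g : ℕ → ℕ) (k : ℕ) :
    ∏ i ∈ Finset.range (k + k), g i
      = (∏ j ∈ Finset.range k, g (2 * j)) * ∏ j ∈ Finset.range k, g (2 * j + 1) := by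
  induction k with
  | zero => simp
  | succ k ih =>
    have : k + 1 + (k + 1) = (k + k) + 1 + 1 := by ring
    rw [this, Finset.prod_range_succ, Finset.prod_range_succ, ih, Finset.prod_range_succ,
      Finset.prod_range_succ]
    have h1 : k + k = 2 * k := by ring
    rw [h1]
    ring

/-- `r` does not divide `q ^ j - 1` for odd `j` when `q` has even order modulo `r` -/
theorem not_dvd_pow_sub_one_of_odd {q r j : ℕ} (hq : 1 ≤ q)
    (hev : Even (orderOf (q : ZMod r))) (hj : Odd j) : ¬ r ∣ q ^ j - 1 := by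
  intro h
  have h1 : ((q ^ j - 1 : ℕ) : ZMod r) = 0 := (ZMod.natCast_eq_zero_iff _ _).mpr h
  have hpos : 1 ≤ q ^ j := Nat.one_le_pow _ _ hq
  rw [Nat.cast_sub hpos, Nat.cast_pow, Nat.cast_one, sub_eq_zero] at h1
  have h2 : orderOf (q : ZMod r) ∣ j := orderOf_dvd_of_pow_eq_one h1
  obtain ⟨a, ha⟩ := hev
  obtain ⟨b, hb⟩ := hj
  obtain ⟨c, hc⟩ := h2
  rw [ha] at hc
  have h3 : j = 2 * (a * c) := by rw [hc]; ring
  omega

/-- the product of the `q ^ j - 1` over odd `j = 3, 5, …, 2k + 1` is prime to `r` -/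
theorem not_dvd_prod_odd {q r : ℕ} (hq : 1 ≤ q) (hr : r.Prime)
    (hev : Even (orderOf (q : ZMod r))) (k : ℕ) :
    ¬ r ∣ ∏ j ∈ Finset.range k, (q ^ (2 * j + 1 + 2) - 1) := by
  intro h
  obtain ⟨j, -, hj⟩ := (Prime.dvd_finsetProd_iff hr.prime _).mp h
  exact not_dvd_pow_sub_one_of_odd hq hev ⟨j + 1, by ring⟩ hj

theorem prod_even_pos {q : ℕ} (hq : 2 ≤ q) (k : ℕ) :
    0 < ∏ i ∈ Finset.range k, (q ^ (2 * (i + 1)) - 1) := by
  apply Finset.prod_pos
  intro i _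
  have : 2 ^ (2 * (i + 1)) ≤ q ^ (2 * (i + 1)) := Nat.pow_le_pow_left hq _
  have h2 : 2 ≤ 2 ^ (2 * (i + 1)) := by
    calc 2 = 2 ^ 1 := by norm_num
      _ ≤ 2 ^ (2 * (i + 1)) := Nat.pow_le_pow_right (by norm_num) (by omega)
  omega

/-- the product `∏_{i < 2k} (q^(i+2) - 1)` split into even and odd exponents -/
theorem prod_split {q : ℕ} (k : ℕ) :
    ∏ i ∈ Finset.range (2 * k), (q ^ (i + 2) - 1)
      = (∏ i ∈ Finset.range k, (q ^ (2 * (i + 1)) - 1))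
        * ∏ j ∈ Finset.range k, (q ^ (2 * j + 1 + 2) - 1) := by
  have h2 : 2 * k = k + k := by ring
  rw [h2, prod_range_even_odd (fun i => q ^ (i + 2) - 1) k]
  congr 1

/-- (AR-odd) -/
theorem arith_odd {q r m : ℕ} (hq : 2 ≤ q) (hr : r.Prime) (hrq : ¬ r ∣ q)
    (hev : Even (orderOf (q : ZMod r)))
    (h : r * (2 * q ^ (m ^ 2) * ∏ i ∈ Finset.range m, (q ^ (2 * (i + 1)) - 1))
      ∣ 2 * (q ^ ((2 * m + 1) * (2 * m + 1 - 1) / 2)
          * ∏ i ∈ Finset.range (2 * m + 1 - 1), (q ^ (i + 2) - 1))) : False := by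
  have hN : 2 * m + 1 - 1 = 2 * m := by omega
  rw [hN, prod_split m] at h
  set B := ∏ i ∈ Finset.range m, (q ^ (2 * (i + 1)) - 1) with hB
  set C := ∏ j ∈ Finset.range m, (q ^ (2 * j + 1 + 2) - 1) with hC
  set E := (2 * m + 1) * (2 * m) / 2
  have hBpos : 0 < 2 * B := by have := prod_even_pos hq m; omega
  have h1 : (2 * B) * (r * q ^ (m ^ 2)) ∣ (2 * B) * (q ^ E * C) := by
    have e1 : (2 * B) * (r * q ^ (m ^ 2)) = r * (2 * q ^ (m ^ 2) * B) := by ring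
    have e2 : (2 * B) * (q ^ E * C) = 2 * (q ^ E * (B * C)) := by ring
    rw [e1, e2]; exact h
  have h2 : r * q ^ (m ^ 2) ∣ q ^ E * C := (Nat.mul_dvd_mul_iff_left hBpos).mp h1
  have h3 : r ∣ q ^ E * C := dvd_trans (dvd_mul_right r _) h2
  rcases (Nat.Prime.dvd_mul hr).mp h3 with h4 | h4
  · exact hrq (hr.dvd_of_dvd_pow h4)
  · exact not_dvd_prod_odd (by omega) hr hev m h4

/-- the product `∏_{i < 2m - 1} (q^(i+2) - 1)` for `m ≥ 1` -/
theorem prod_split' {q : ℕ} (m : ℕ) (hm : 1 ≤ m) :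
    ∏ i ∈ Finset.range (2 * m - 1), (q ^ (i + 2) - 1)
      = (∏ i ∈ Finset.range (m - 1), (q ^ (2 * (i + 1)) - 1))
        * (∏ j ∈ Finset.range (m - 1), (q ^ (2 * j + 1 + 2) - 1)) * (q ^ (2 * m) - 1) := by
  obtain ⟨k, rfl⟩ : ∃ k, m = k + 1 := ⟨m - 1, by omega⟩
  have h1 : 2 * (k + 1) - 1 = 2 * k + 1 := by omega
  have h2 : k + 1 - 1 = k := by omega
  rw [h1, h2, Finset.prod_range_succ, prod_split k]
  congr 2

theorem pow_two_mul_sub_one (q m : ℕ) (hq : 1 ≤ q) :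
    q ^ (2 * m) - 1 = (q ^ m - 1) * (q ^ m + 1) := by
  have h1 : 1 ≤ q ^ m := Nat.one_le_pow _ _ hq
  have : q ^ (2 * m) = q ^ m * q ^ m := by rw [two_mul, pow_add]
  rw [this]
  zify [h1, Nat.one_le_iff_ne_zero.mpr (Nat.mul_ne_zero (by omega : q ^ m ≠ 0) (by omega : q ^ m ≠ 0))]
  ring

/-- (AR-plus) -/
theorem arith_plus {q r m : ℕ} (hq : 2 ≤ q) (hm : 1 ≤ m) (hr : r.Prime) (hrq : ¬ r ∣ q)
    (hev : Even (orderOf (q : ZMod r)))
    (h : r * (2 * q ^ (m * (m - 1)) * (q ^ m - 1)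
          * ∏ i ∈ Finset.range (m - 1), (q ^ (2 * (i + 1)) - 1))
      ∣ 2 * (q ^ ((2 * m) * (2 * m - 1) / 2)
          * ∏ i ∈ Finset.range (2 * m - 1), (q ^ (i + 2) - 1))) : r ∣ q ^ m + 1 := by
  rw [prod_split' m hm, pow_two_mul_sub_one q m (by omega)] at h
  set B := ∏ i ∈ Finset.range (m - 1), (q ^ (2 * (i + 1)) - 1) with hB
  set C := ∏ j ∈ Finset.range (m - 1), (q ^ (2 * j + 1 + 2) - 1) with hC
  set E := (2 * m) * (2 * m - 1) / 2
  have hqm : 0 < q ^ m - 1 := by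
    have : 2 ^ m ≤ q ^ m := Nat.pow_le_pow_left hq _
    have h2 : 2 ≤ 2 ^ m := by
      calc 2 = 2 ^ 1 := by norm_num
        _ ≤ 2 ^ m := Nat.pow_le_pow_right (by norm_num) hm
    omega
  have hBpos : 0 < 2 * B * (q ^ m - 1) := by
    have := prod_even_pos hq (m - 1)
    positivity
  have h1 : (2 * B * (q ^ m - 1)) * (r * q ^ (m * (m - 1))) ∣
      (2 * B * (q ^ m - 1)) * (q ^ E * C * (q ^ m + 1)) := by
    have e1 : (2 * B * (q ^ m - 1)) * (r * q ^ (m * (m - 1)))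
        = r * (2 * q ^ (m * (m - 1)) * (q ^ m - 1) * B) := by ring
    have e2 : (2 * B * (q ^ m - 1)) * (q ^ E * C * (q ^ m + 1))
        = 2 * (q ^ E * (B * C * ((q ^ m - 1) * (q ^ m + 1)))) := by ring
    rw [e1, e2]; exact h
  have h2 := (Nat.mul_dvd_mul_iff_left hBpos).mp h1
  have h3 : r ∣ q ^ E * C * (q ^ m + 1) := dvd_trans (dvd_mul_right r _) h2
  rcases (Nat.Prime.dvd_mul hr).mp h3 with h4 | h4
  · exfalso
    rcases (Nat.Prime.dvd_mul hr).mp h4 with h5 | h5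
    · exact hrq (hr.dvd_of_dvd_pow h5)
    · exact not_dvd_prod_odd (by omega) hr hev (m - 1) h5
  · exact h4

/-- (AR-minus) -/
theorem arith_minus {q r m : ℕ} (hq : 2 ≤ q) (hm : 1 ≤ m) (hr : r.Prime) (hrq : ¬ r ∣ q)
    (hev : Even (orderOf (q : ZMod r)))
    (h : r * (2 * q ^ (m * (m - 1)) * (q ^ m + 1)
          * ∏ i ∈ Finset.range (m - 1), (q ^ (2 * (i + 1)) - 1))
      ∣ 2 * (q ^ ((2 * m) * (2 * m - 1) / 2)
          * ∏ i ∈ Finset.range (2 * m - 1), (q ^ (i + 2) - 1))) : r ∣ q ^ m - 1 := by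
  rw [prod_split' m hm, pow_two_mul_sub_one q m (by omega)] at h
  set B := ∏ i ∈ Finset.range (m - 1), (q ^ (2 * (i + 1)) - 1) with hB
  set C := ∏ j ∈ Finset.range (m - 1), (q ^ (2 * j + 1 + 2) - 1) with hC
  set E := (2 * m) * (2 * m - 1) / 2
  have hBpos : 0 < 2 * B * (q ^ m + 1) := by
    have := prod_even_pos hq (m - 1)
    positivity
  have h1 : (2 * B * (q ^ m + 1)) * (r * q ^ (m * (m - 1))) ∣
      (2 * B * (q ^ m + 1)) * (q ^ E * C * (q ^ m - 1)) := by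
    have e1 : (2 * B * (q ^ m + 1)) * (r * q ^ (m * (m - 1)))
        = r * (2 * q ^ (m * (m - 1)) * (q ^ m + 1) * B) := by ring
    have e2 : (2 * B * (q ^ m + 1)) * (q ^ E * C * (q ^ m - 1))
        = 2 * (q ^ E * (B * C * ((q ^ m - 1) * (q ^ m + 1)))) := by ring
    rw [e1, e2]; exact h
  have h2 := (Nat.mul_dvd_mul_iff_left hBpos).mp h1
  have h3 : r ∣ q ^ E * C * (q ^ m - 1) := dvd_trans (dvd_mul_right r _) h2
  rcases (Nat.Prime.dvd_mul hr).mp h3 with h4 | h4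
  · exfalso
    rcases (Nat.Prime.dvd_mul hr).mp h4 with h5 | h5
    · exact hrq (hr.dvd_of_dvd_pow h5)
    · exact not_dvd_prod_odd (by omega) hr hev (m - 1) h5
  · exact h4

end Cfsg.Agent.Helper19.QSim
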