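import Mathlib
import Cfsg.Prelude.Def_LieRecognition

set_option autoImplicit false

/-!
Basic consequences of `Cfsg.IsRankOneSetup` (shared by S1118–S1128).
-/

namespace Cfsg.Agent.Helper19

open MulAction
open scoped Pointwise

section Dihedral

variable {G : Type*} [Group G]

theorem inv_eq_self_of_mul_self {u : G} (hu : u * u = 1) : u⁻¹ = u :=
  inv_eq_of_mul_eq_one_right hu

/-- For involutions `s`, `u`: `s (s u)^n s⁻¹ = (s u)^(-n)`. -/
theorem invol_conj_pow {s u : G} (hs : s * s = 1) (hu : u * u = 1) (n : ℕ) :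
    s * (s * u) ^ n * s⁻¹ = ((s * u)⁻¹) ^ n := by
  rw [← conj_pow]
  congr 1
  rw [mul_inv_rev, inv_eq_self_of_mul_self hs, inv_eq_self_of_mul_self hu]
  rw [← mul_assoc, hs, one_mul]

/-- If the product of two involutions has odd order, they are conjugate (by an explicit element). -/
theorem invol_conj_of_odd {s u : G} (hs : s * s = 1) (hu : u * u = 1) {k : ℕ}
    (hk : (s * u) ^ (2 * k + 1) = 1) :
    ((s * u)⁻¹) ^ (k + 1) * s * (((s * u)⁻¹) ^ (k + 1))⁻¹ = u := by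
  have h1 := invol_conj_pow hs hu (k + 1)
  have sinv := inv_eq_self_of_mul_self hs
  -- s r^(k+1) = r^(-(k+1)) s
  have h2 : s * (s * u) ^ (k + 1) = ((s * u)⁻¹) ^ (k + 1) * s := by
    rw [← h1]; group
  have h3 : (((s * u)⁻¹) ^ (k + 1))⁻¹ = (s * u) ^ (k + 1) := by
    rw [inv_pow, inv_inv]
  rw [h3, mul_assoc, h2, ← mul_assoc, ← pow_add]
  have h4 : ((s * u)⁻¹) ^ (k + 1 + (k + 1)) = (s * u)⁻¹ := by
    rw [inv_pow, show k + 1 + (k + 1) = (2 * k + 1) + 1 by ring, pow_succ, hk, one_mul]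
  rw [h4, mul_inv_rev, inv_eq_self_of_mul_self hu, sinv, mul_assoc, hs, mul_one]

/-- If the product of two involutions has even order `2k`, then `(s u)^k` is an involution
commuting with both. -/
theorem invol_central_of_even {s u : G} (hs : s * s = 1) (hu : u * u = 1) {k : ℕ}
    (hk : orderOf (s * u) = 2 * k) (hk0 : 0 < k) :
    (s * u) ^ k ≠ 1 ∧ (s * u) ^ k * (s * u) ^ k = 1 ∧ (s * u) ^ k * s = s * (s * u) ^ k ∧
      (s * u) ^ k * u = u * (s * u) ^ k := by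
  have hz2 : (s * u) ^ k * (s * u) ^ k = 1 := by
    rw [← pow_add, ← two_mul, ← hk, pow_orderOf_eq_one]
  have hzinv : ((s * u) ^ k)⁻¹ = (s * u) ^ k := inv_eq_self_of_mul_self hz2
  have hz1 : (s * u) ^ k ≠ 1 := by
    intro h
    have := orderOf_dvd_of_pow_eq_one h
    rw [hk] at this
    have := Nat.le_of_dvd hk0 this
    omega
  have hcs : (s * u) ^ k * s = s * (s * u) ^ k := by
    have h1 := invol_conj_pow hs hu k
    rw [inv_pow, hzinv] at h1
    calc (s * u) ^ k * s = (s * (s * u) ^ k * s⁻¹) * s := by rw [h1]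
      _ = s * (s * u) ^ k := by group
  refine ⟨hz1, hz2, hcs, ?_⟩
  have c1 : Commute ((s * u) ^ k) s := hcs
  have c2 : Commute ((s * u) ^ k) (s * u) := (Commute.refl (s * u)).pow_left k
  have c3 : Commute ((s * u) ^ k) (s⁻¹ * (s * u)) := c1.inv_right.mul_right c2
  rw [inv_mul_cancel_left] at c3
  exact c3

end Dihedral

section Setup

variable {G Ω : Type*} [Group G] [MulAction G Ω] {a : Ω} {t : G} {Q : Subgroup G}

theorem t_inv (hS : Cfsg.IsRankOneSetup G Ω a t Q) : t⁻¹ = t :=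
  inv_eq_self_of_mul_self hS.mul_self

theorem t_smul_t_smul (hS : Cfsg.IsRankOneSetup G Ω a t Q) (c : Ω) : t • t • c = c := by
  rw [← mul_smul, hS.mul_self, one_smul]

theorem ta_ne (hS : Cfsg.IsRankOneSetup G Ω a t Q) : t • a ≠ a := fun h =>
  hS.not_mem (mem_stabilizer_iff.mpr h)

theorem stab_le_normalizer (hS : Cfsg.IsRankOneSetup G Ω a t Q) :
    stabilizer G a ≤ Subgroup.normalizer (Q : Set G) := by
  intro g hg
  rw [Subgroup.mem_normalizer_iff]
  intro n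
  constructor
  · intro hn
    exact hS.conj_mem g hg n hn
  · intro hn
    have := hS.conj_mem g⁻¹ (Subgroup.inv_mem _ hg) _ hn
    simpa [mul_assoc] using this

/-- Elements of `G_a` factor as `q * d`. -/
theorem mem_stab_iff (hS : Cfsg.IsRankOneSetup G Ω a t Q) {g : G} :
    g ∈ stabilizer G a ↔ ∃ q ∈ Q, ∃ d ∈ stabilizer G a ⊓ stabilizer G (t • a), g = q * d := by
  have h1 : ((Q ⊔ (stabilizer G a ⊓ stabilizer G (t • a)) : Subgroup G) : Set G) =
      (Q : Set G) * ((stabilizer G a ⊓ stabilizer G (t • a) : Subgroup G) : Set G) :=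
    Subgroup.coe_mul_of_right_le_normalizer_left Q _ (inf_le_left.trans (stab_le_normalizer hS))
  have h0 : g ∈ stabilizer G a ↔ g ∈ ((Q ⊔ (stabilizer G a ⊓ stabilizer G (t • a)) : Subgroup G) : Set G) := by
    rw [SetLike.mem_coe, hS.sup_eq]
  rw [h0, h1, Set.mem_mul]
  constructor
  · rintro ⟨q, hq, d, hd, rfl⟩
    exact ⟨q, hq, d, hd, rfl⟩
  · rintro ⟨q, hq, d, hd, rfl⟩
    exact ⟨q, hq, d, hd, rfl⟩

/-- `Q` is transitive on the points other than `a`, starting from `t • a`. -/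
theorem exists_Q_smul_ta (hS : Cfsg.IsRankOneSetup G Ω a t Q) {c : Ω} (hc : c ≠ a) :
    ∃ q ∈ Q, q • (t • a) = c := by
  have h2 := hS.two_transitive
  rw [is_two_pretransitive_iff] at h2
  obtain ⟨g, hga, hgb⟩ := h2 (a := a) (b := t • a) (c := a) (d := c) (ta_ne hS).symm hc.symm
  obtain ⟨q, hq, d, hd, rfl⟩ := (mem_stab_iff hS).mp (mem_stabilizer_iff.mpr hga)
  refine ⟨q, hq, ?_⟩
  rw [mul_smul, mem_stabilizer_iff.mp hd.2] at hgb
  exact hgb

/-- `Q` acts freely on the points other than `a`. -/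
theorem Q_free (hS : Cfsg.IsRankOneSetup G Ω a t Q) {x : G} (hx : x ∈ Q) {c : Ω} (hc : c ≠ a)
    (hxc : x • c = c) : x = 1 := by
  obtain ⟨q, hq, rfl⟩ := exists_Q_smul_ta hS hc
  have h1 : q⁻¹ * x * q ∈ Q ⊓ stabilizer G (t • a) := by
    refine ⟨Q.mul_mem (Q.mul_mem (Q.inv_mem hq) hx) hq, ?_⟩
    show q⁻¹ * x * q ∈ stabilizer G (t • a)
    rw [mem_stabilizer_iff, mul_smul, mul_smul, hxc, inv_smul_smul]
  rw [hS.inf_eq_bot, Subgroup.mem_bot] at h1
  have : x = q * (q⁻¹ * x * q) * q⁻¹ := by group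
  rw [this, h1]; group

theorem Q_trans (hS : Cfsg.IsRankOneSetup G Ω a t Q) {c d : Ω} (hc : c ≠ a) (hd : d ≠ a) :
    ∃ x ∈ Q, x • c = d := by
  obtain ⟨q1, hq1, rfl⟩ := exists_Q_smul_ta hS hc
  obtain ⟨q2, hq2, rfl⟩ := exists_Q_smul_ta hS hd
  refine ⟨q2 * q1⁻¹, Q.mul_mem hq2 (Q.inv_mem hq1), ?_⟩
  rw [mul_smul, inv_smul_smul]

theorem Q_smul_eq_imp (hS : Cfsg.IsRankOneSetup G Ω a t Q) {x y : G} (hx : x ∈ Q) (hy : y ∈ Q)
    {c : Ω} (hc : c ≠ a) (h : x • c = y • c) : x = y := by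
  have h1 : (y⁻¹ * x) • c = c := by rw [mul_smul, h, inv_smul_smul]
  have := Q_free hS (Q.mul_mem (Q.inv_mem hy) hx) hc h1
  calc x = y * (y⁻¹ * x) := by group
    _ = y := by rw [this, mul_one]

theorem Q_regular (hS : Cfsg.IsRankOneSetup G Ω a t Q) {c d : Ω} (hc : c ≠ a) (hd : d ≠ a) :
    ∃! x : Q, (x : G) • c = d := by
  obtain ⟨x, hx, hxc⟩ := Q_trans hS hc hd
  refine ⟨⟨x, hx⟩, hxc, ?_⟩
  rintro ⟨y, hy⟩ hyc
  apply Subtype.ext
  exact Q_smul_eq_imp hS hy hx hc (hyc.trans hxc.symm)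

theorem Q_smul_a (hS : Cfsg.IsRankOneSetup G Ω a t Q) {x : G} (hx : x ∈ Q) : x • a = a :=
  mem_stabilizer_iff.mp (hS.le hx)

/-- A non-identity element of `Q` fixes exactly the point `a`. -/
theorem Q_fixed_iff (hS : Cfsg.IsRankOneSetup G Ω a t Q) {x : G} (hx : x ∈ Q) (hx1 : x ≠ 1) {c : Ω} :
    x • c = c ↔ c = a := by
  constructor
  · intro h
    by_contra hc
    exact hx1 (Q_free hS hx hc h)
  · rintro rfl
    exact Q_smul_a hS hx

theorem Q_ne_bot [Finite G] (hS : Cfsg.IsRankOneSetup G Ω a t Q) : ∃ x ∈ Q, x ≠ 1 := by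
  by_contra h
  push Not at h
  have : Q = ⊥ := by
    rw [Subgroup.eq_bot_iff_forall]
    exact h
  have h2 := hS.even_card
  rw [this, Subgroup.card_bot] at h2
  exact (by decide : ¬ Even 1) h2

end Setup

end Cfsg.Agent.Helper19
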