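import Cfsg.Agent.Helper19.RankOne9
import Cfsg.Agent.S0226

set_option autoImplicit false

/-!
Products of two involutions in the rank-one set-up.
-/

namespace Cfsg.Agent.Helper19

open MulAction
open scoped Pointwise

section Abstract

variable {G : Type*} [Group G]

/-- In a finite group, if `u` is an involution normalising (by conjugation) a subgroup `C` of
even order, then `u` commutes with some involution of `C`. -/
theorem exists_invol_commute_of_even [Finite G] (C : Subgroup G) (heven : Even (Nat.card C))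
    {u : G} (huu : u * u = 1) (hnorm : ∀ z ∈ C, u * z * u⁻¹ ∈ C) :
    ∃ z ∈ C, z ≠ 1 ∧ z * z = 1 ∧ u * z = z * u := by
  classical
  have hodd := Cfsg.Agent.S0226.result (G := C) heven
  have key : ∀ z : G, u * (u * z * u⁻¹) * u⁻¹ = z := by
    intro z
    calc u * (u * z * u⁻¹) * u⁻¹ = (u * u) * z * (u * u)⁻¹ := by group
      _ = z := by rw [huu]; group
  let f : {z : C // orderOf z = 2} → {z : C // orderOf z = 2} := fun z =>
    ⟨⟨u * (z.1 : G) * u⁻¹, hnorm _ z.1.2⟩, by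
      have h1 : orderOf (z.1 : G) = 2 := by rw [Subgroup.orderOf_coe]; exact z.2
      rw [← Subgroup.orderOf_coe]
      show orderOf (u * (z.1 : G) * u⁻¹) = 2
      have hsc : SemiconjBy u (z.1 : G) (u * (z.1 : G) * u⁻¹) := by
        show u * (z.1 : G) = u * (z.1 : G) * u⁻¹ * u
        group
      rw [← SemiconjBy.orderOf_eq u hsc]; exact h1⟩
  have hf : Function.Involutive f := by
    intro z
    apply Subtype.ext
    apply Subtype.ext
    show u * (u * (z.1 : G) * u⁻¹) * u⁻¹ = (z.1 : G)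
    exact key _
  have : Fintype {z : C // orderOf z = 2} := Fintype.ofFinite _
  have : Fact (Nat.Prime 2) := ⟨Nat.prime_two⟩
  have hnd : ¬ 2 ∣ Fintype.card {z : C // orderOf z = 2} := by
    rw [← Nat.card_eq_fintype_card]
    exact fun h => (Nat.not_even_iff_odd.mpr hodd) (even_iff_two_dvd.mpr h)
  have hσ : (hf.toPerm f) ^ 2 ^ 1 = 1 := by
    ext z
    simp only [pow_one, pow_two, Equiv.Perm.coe_mul, Function.comp_apply,
      Function.Involutive.coe_toPerm, Equiv.Perm.coe_one, id_eq]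
    rw [hf z]
  obtain ⟨z, hz⟩ := Equiv.Perm.exists_fixed_point_of_prime (p := 2) (n := 1) hnd hσ
  have hz' : u * (z.1 : G) * u⁻¹ = (z.1 : G) := by
    have := congrArg (fun w : {z : C // orderOf z = 2} => ((w.1 : C) : G)) hz
    exact this
  have ho : orderOf (z.1 : G) = 2 := by rw [Subgroup.orderOf_coe]; exact z.2
  refine ⟨(z.1 : G), z.1.2, ?_, ?_, ?_⟩
  · intro h
    rw [h, orderOf_one] at ho
    norm_num at ho
  · have := pow_orderOf_eq_one (z.1 : G)
    rw [ho, pow_two] at this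
    exact this
  · calc u * (z.1 : G) = u * (z.1 : G) * u⁻¹ * u := by group
      _ = (z.1 : G) * u := by rw [hz']

end Abstract

section Setup

variable {G Ω : Type*} [Group G] [MulAction G Ω] {a : Ω} {t : G} {Q : Subgroup G}

/-- Two involutions with a common fixed point have product of order at most two. -/
theorem invol_common_fixed [Finite G] (hS : Cfsg.IsRankOneSetup G Ω a t Q) {u v : G}
    (hu1 : u ≠ 1) (huu : u * u = 1) (hv1 : v ≠ 1) (hvv : v * v = 1) {c : Ω}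
    (huc : u • c = c) (hvc : v • c = c) : (u * v) * (u * v) = 1 := by
  have := pretransitive hS
  obtain ⟨g, hg⟩ := exists_smul_eq G c a
  have hmem : ∀ w : G, w ≠ 1 → w * w = 1 → w • c = c →
      g * w * g⁻¹ ∈ Cfsg.involutionsIn (stabilizer G a : Set G) := by
    intro w hw1 hww hwc
    refine ⟨?_, conj_ne_one hw1 g, conj_mul_self hww g⟩
    show g * w * g⁻¹ ∈ stabilizer G a
    rw [mem_stabilizer_iff, mul_smul, mul_smul, ← hg, inv_smul_smul, hwc]
  have hc := invol_commute hS (hmem u hu1 huu huc) (hmem v hv1 hvv hvc)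
  have hc' : u * v = v * u := by
    have : g⁻¹ * ((g * u * g⁻¹) * (g * v * g⁻¹)) * g = g⁻¹ * ((g * v * g⁻¹) * (g * u * g⁻¹)) * g := by
      rw [hc]
    calc u * v = g⁻¹ * ((g * u * g⁻¹) * (g * v * g⁻¹)) * g := by group
      _ = g⁻¹ * ((g * v * g⁻¹) * (g * u * g⁻¹)) * g := this
      _ = v * u := by group
  calc u * v * (u * v) = u * (v * u) * v := by group
    _ = u * (u * v) * v := by rw [hc']
    _ = (u * u) * (v * v) := by group
    _ = 1 := by rw [huu, hvv, one_mul]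

/-- A product `u v` of two involutions with `(u v)² ≠ 1` is conjugate to `u' t` for an involution
`u'` of `G_a`. -/
theorem prod_invol_conj [Finite G] (hS : Cfsg.IsRankOneSetup G Ω a t Q) {u v : G}
    (hu1 : u ≠ 1) (huu : u * u = 1) (hv1 : v ≠ 1) (hvv : v * v = 1)
    (hx : (u * v) * (u * v) ≠ 1) :
    ∃ g : G, ∃ u' ∈ Cfsg.involutionsIn (stabilizer G a : Set G), g * (u * v) * g⁻¹ = u' * t := by
  obtain ⟨cu, hcu⟩ := invol_fixed_exists hS huu
  obtain ⟨cv, hcv⟩ := invol_fixed_exists hS hvv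
  have hne : cu ≠ cv := by
    intro h
    rw [← h] at hcv
    exact hx (invol_common_fixed hS hu1 huu hv1 hvv hcu hcv)
  obtain ⟨ct, hct, hcta⟩ := exists_t_fixed hS
  have h2 := hS.two_transitive
  rw [is_two_pretransitive_iff] at h2
  obtain ⟨g₁, hg₁u, hg₁v⟩ := h2 (a := cu) (b := cv) (c := a) (d := ct) hne hcta.symm
  obtain ⟨g₂, hg₂c, hg₂a⟩ := h2 (a := ct) (b := a) (c := a) (d := t • a) hcta (ta_ne hS).symm
  -- conjugates
  have hu₁ : g₁ * u * g₁⁻¹ ∈ Cfsg.involutionsIn (stabilizer G a : Set G) := by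
    refine ⟨?_, conj_ne_one hu1 g₁, conj_mul_self huu g₁⟩
    show g₁ * u * g₁⁻¹ ∈ stabilizer G a
    rw [mem_stabilizer_iff, mul_smul, mul_smul, ← hg₁u, inv_smul_smul, hcu]
  have hv₁c : (g₁ * v * g₁⁻¹) • ct = ct := by
    rw [mul_smul, mul_smul, ← hg₁v, inv_smul_smul, hcv]
  have hv₂ : g₂ * (g₁ * v * g₁⁻¹) * g₂⁻¹ ∈ Cfsg.involutionsIn (stabilizer G a : Set G) := by
    refine ⟨?_, conj_ne_one (conj_ne_one hv1 g₁) g₂, conj_mul_self (conj_mul_self hvv g₁) g₂⟩
    show g₂ * (g₁ * v * g₁⁻¹) * g₂⁻¹ ∈ stabilizer G a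
    rw [mem_stabilizer_iff, mul_smul, mul_smul, ← hg₂c, inv_smul_smul, hv₁c]
  have ht₂ : g₂ * t * g₂⁻¹ ∈ Cfsg.involutionsIn (stabilizer G a : Set G) := by
    refine ⟨?_, conj_ne_one hS.ne_one g₂, conj_mul_self hS.mul_self g₂⟩
    show g₂ * t * g₂⁻¹ ∈ stabilizer G a
    rw [mem_stabilizer_iff, mul_smul, mul_smul, ← hg₂c, inv_smul_smul, hct]
  obtain ⟨k, hk, hkeq⟩ := exists_K_conj hS hv₂ ht₂
  have hka : k • a = a := mem_stabilizer_iff.mp hk.1.1
  have hkb : k • (t • a) = t • a := mem_stabilizer_iff.mp hk.1.2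
  have hha : (g₂⁻¹ * k⁻¹ * g₂) ∈ stabilizer G a := by
    rw [mem_stabilizer_iff, mul_smul, mul_smul, hg₂a, inv_smul_eq_iff.mpr hkb.symm,
      inv_smul_eq_iff, hg₂a]
  have hht : (g₂⁻¹ * k⁻¹ * g₂) * (g₁ * v * g₁⁻¹) * (g₂⁻¹ * k⁻¹ * g₂)⁻¹ = t := by
    calc (g₂⁻¹ * k⁻¹ * g₂) * (g₁ * v * g₁⁻¹) * (g₂⁻¹ * k⁻¹ * g₂)⁻¹
        = g₂⁻¹ * (k⁻¹ * (g₂ * (g₁ * v * g₁⁻¹) * g₂⁻¹) * k) * g₂ := by group
      _ = g₂⁻¹ * (g₂ * t * g₂⁻¹) * g₂ := by rw [hkeq]
      _ = t := by group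
  have hu' : (g₂⁻¹ * k⁻¹ * g₂) * (g₁ * u * g₁⁻¹) * (g₂⁻¹ * k⁻¹ * g₂)⁻¹ ∈
      Cfsg.involutionsIn (stabilizer G a : Set G) := by
    have := conj_mem_involutionsIn hu₁ (Subgroup.inv_mem _ hha)
    simpa using this
  refine ⟨(g₂⁻¹ * k⁻¹ * g₂) * g₁, _, hu', ?_⟩
  calc (g₂⁻¹ * k⁻¹ * g₂) * g₁ * (u * v) * ((g₂⁻¹ * k⁻¹ * g₂) * g₁)⁻¹
      = ((g₂⁻¹ * k⁻¹ * g₂) * (g₁ * u * g₁⁻¹) * (g₂⁻¹ * k⁻¹ * g₂)⁻¹) *
        ((g₂⁻¹ * k⁻¹ * g₂) * (g₁ * v * g₁⁻¹) * (g₂⁻¹ * k⁻¹ * g₂)⁻¹) := by group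
    _ = (g₂⁻¹ * k⁻¹ * g₂) * (g₁ * u * g₁⁻¹) * (g₂⁻¹ * k⁻¹ * g₂)⁻¹ * t := by rw [hht]

/-- If `(u v)² ≠ 1` for involutions `u, v` then `C_G(u v)` has odd order. -/
theorem odd_card_centralizer_prod [Finite G] (hS : Cfsg.IsRankOneSetup G Ω a t Q) {u v : G}
    (hu1 : u ≠ 1) (huu : u * u = 1) (hv1 : v ≠ 1) (hvv : v * v = 1)
    (hx : (u * v) * (u * v) ≠ 1) : Odd (Nat.card ↥(Subgroup.centralizer {u * v})) := by
  by_contra hodd
  rw [Nat.not_odd_iff_even] at hodd
  have huinv : u⁻¹ = u := inv_eq_self_of_mul_self huu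
  have hvinv : v⁻¹ = v := inv_eq_self_of_mul_self hvv
  have hnorm : ∀ z ∈ Subgroup.centralizer {u * v}, u * z * u⁻¹ ∈ Subgroup.centralizer {u * v} := by
    intro z hz
    have hz' : (u * v) * z = z * (u * v) := (Subgroup.mem_centralizer_iff.mp hz) _ rfl
    -- z commutes with (u v)⁻¹ = v u
    have hz'' : (v * u) * z = z * (v * u) := by
      have e : v * u = (u * v)⁻¹ := by rw [mul_inv_rev, huinv, hvinv]
      rw [e]
      calc (u * v)⁻¹ * z = (u * v)⁻¹ * (z * (u * v)) * (u * v)⁻¹ := by group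
        _ = (u * v)⁻¹ * ((u * v) * z) * (u * v)⁻¹ := by rw [hz']
        _ = z * (u * v)⁻¹ := by group
    refine Subgroup.mem_centralizer_iff.mpr ?_
    intro h hh
    have hh' : h = u * v := hh
    rw [hh', huinv]
    calc u * v * (u * z * u) = u * ((v * u) * z) * u := by group
      _ = u * (z * (v * u)) * u := by rw [hz'']
      _ = u * z * v * (u * u) := by group
      _ = u * z * (u * u) * v := by rw [huu]; group
      _ = u * z * u * (u * v) := by group
  obtain ⟨z, hzC, hz1, hzz, hzu⟩ := exists_invol_commute_of_even _ hodd huu hnorm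
  have hzx : (u * v) * z = z * (u * v) := (Subgroup.mem_centralizer_iff.mp hzC) _ rfl
  have hzv : z * v = v * z := by
    have e : v = u * (u * v) := by rw [← mul_assoc, huu, one_mul]
    calc z * v = z * (u * (u * v)) := by rw [← e]
      _ = (z * u) * (u * v) := by group
      _ = (u * z) * (u * v) := by rw [hzu]
      _ = u * (z * (u * v)) := by group
      _ = u * ((u * v) * z) := by rw [hzx]
      _ = (u * (u * v)) * z := by group
      _ = v * z := by rw [← e]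
  obtain ⟨c, hc⟩ := invol_fixed_exists hS hzz
  have huc : u • c = c := invol_fixed_of_commute hS hzz hz1 hzu.symm hc
  have hvc : v • c = c := invol_fixed_of_commute hS hzz hz1 hzv hc
  exact hx (invol_common_fixed hS hu1 huu hv1 hvv huc hvc)

end Setup

end Cfsg.Agent.Helper19
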