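import Cfsg.Agent.Helper19.RankOne

set_option autoImplicit false

/-!
More consequences of `Cfsg.IsRankOneSetup`: involutions, counting.
-/

namespace Cfsg.Agent.Helper19

open MulAction
open scoped Pointwise

section General

variable {G : Type*} [Group G]

theorem orderOf_dvd_card_of_mem (H : Subgroup G) {d : G} (hd : d ∈ H) : orderOf d ∣ Nat.card H := by
  have h0 : orderOf (⟨d, hd⟩ : H) ∣ Nat.card H := orderOf_dvd_natCard _
  rwa [Subgroup.orderOf_mk] at h0

theorem eq_one_of_mul_self_of_odd (H : Subgroup G) (hodd : Odd (Nat.card H)) {d : G} (hd : d ∈ H)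
    (h : d * d = 1) : d = 1 := by
  have h1 : orderOf d ∣ 2 := orderOf_dvd_of_pow_eq_one (by rw [pow_two, h])
  have h2 : orderOf d ∣ Nat.card H := orderOf_dvd_card_of_mem H hd
  have h3 : Nat.Coprime 2 (Nat.card H) := Nat.coprime_two_left.mpr hodd
  exact orderOf_eq_one_iff.mp (Nat.eq_one_of_dvd_coprimes h3 h1 h2)

end General

section Setup

variable {G Ω : Type*} [Group G] [MulAction G Ω] {a : Ω} {t : G} {Q : Subgroup G}

/-- Involutions (and the identity) of `G_a` lie in `Q`. -/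
theorem invol_mem_Q (hS : Cfsg.IsRankOneSetup G Ω a t Q) {s : G} (hs : s ∈ stabilizer G a)
    (hss : s * s = 1) : s ∈ Q := by
  obtain ⟨q, hq, d, hd, rfl⟩ := (mem_stab_iff hS).mp hs
  have h1 : d * q * d⁻¹ ∈ Q := hS.conj_mem d hd.1 q hq
  have h2 : d * d = (q * (d * q * d⁻¹))⁻¹ := by
    have : q * d * (q * d) = (q * (d * q * d⁻¹)) * (d * d) := by group
    rw [this] at hss
    exact eq_inv_of_mul_eq_one_right hss
  have h3 : d * d ∈ Q ⊓ stabilizer G (t • a) := by
    refine ⟨?_, ?_⟩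
    · rw [h2]; exact Q.inv_mem (Q.mul_mem hq h1)
    · exact Subgroup.mul_mem _ hd.2 hd.2
  rw [hS.inf_eq_bot, Subgroup.mem_bot] at h3
  have h4 : d = 1 := eq_one_of_mul_self_of_odd _ hS.odd_card hd h3
  rw [h4, mul_one]; exact hq

/-- The bijection `Q ≃ Ω ∖ {a}`. -/
noncomputable def QEquiv (hS : Cfsg.IsRankOneSetup G Ω a t Q) : Q ≃ {c : Ω // c ≠ a} :=
  Equiv.ofBijective (fun x => ⟨(x : G) • (t • a), by
      rw [Ne, smul_eq_iff_eq_inv_smul, Q_smul_a hS (Q.inv_mem x.2)]; exact ta_ne hS⟩)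
    ⟨fun x y h => Subtype.ext (Q_smul_eq_imp hS x.2 y.2 (ta_ne hS) (congrArg Subtype.val h)),
     fun c => by
      obtain ⟨q, hq, hqc⟩ := exists_Q_smul_ta hS c.2
      exact ⟨⟨q, hq⟩, Subtype.ext hqc⟩⟩

theorem finite_Omega [Finite G] (hS : Cfsg.IsRankOneSetup G Ω a t Q) : Finite Ω := by
  classical
  have : Finite {c : Ω // c ≠ a} := Finite.of_equiv Q (QEquiv hS)
  exact Finite.of_equiv _ (Equiv.optionSubtypeNe a)

theorem card_Omega [Finite G] (hS : Cfsg.IsRankOneSetup G Ω a t Q) :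
    Nat.card Ω = Nat.card Q + 1 := by
  classical
  have : Finite {c : Ω // c ≠ a} := Finite.of_equiv Q (QEquiv hS)
  rw [← Nat.card_congr (Equiv.optionSubtypeNe a), Finite.card_option, Nat.card_congr (QEquiv hS)]

theorem odd_card_Omega [Finite G] (hS : Cfsg.IsRankOneSetup G Ω a t Q) : Odd (Nat.card Ω) := by
  rw [card_Omega hS]
  exact hS.even_card.add_one

theorem pretransitive (hS : Cfsg.IsRankOneSetup G Ω a t Q) : IsPretransitive G Ω :=
  have := hS.two_transitive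
  isPretransitive_of_is_two_pretransitive

/-- Every element with `u * u = 1` fixes a point. -/
theorem invol_fixed_exists [Finite G] (hS : Cfsg.IsRankOneSetup G Ω a t Q) {u : G} (hu : u * u = 1) :
    ∃ c : Ω, u • c = c := by
  have := finite_Omega hS
  have h1 : orderOf u ∣ 2 := orderOf_dvd_of_pow_eq_one (by rw [pow_two, hu])
  have hP : IsPGroup 2 (Subgroup.zpowers u) := by
    rcases (Nat.dvd_prime Nat.prime_two).mp h1 with h | h
    · exact IsPGroup.of_card (n := 0) (by rw [Nat.card_zpowers, h, pow_zero])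
    · exact IsPGroup.of_card (n := 1) (by rw [Nat.card_zpowers, h, pow_one])
  have hodd : ¬ 2 ∣ Nat.card Ω := by
    rw [← even_iff_two_dvd, Nat.not_even_iff_odd]
    exact odd_card_Omega hS
  obtain ⟨c, hc⟩ := hP.nonempty_fixed_point_of_prime_not_dvd_card Ω hodd
  exact ⟨c, hc ⟨u, Subgroup.mem_zpowers u⟩⟩

/-- A non-identity involution fixing `c` fixes no other point. -/
theorem invol_fixed_unique [Finite G] (hS : Cfsg.IsRankOneSetup G Ω a t Q) {u : G} (hu : u * u = 1)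
    (hu1 : u ≠ 1) {c d : Ω} (hc : u • c = c) (hd : u • d = d) : c = d := by
  have := pretransitive hS
  obtain ⟨g, hg⟩ := exists_smul_eq G c a
  -- s = g u g⁻¹ fixes a
  have hsa : (g * u * g⁻¹) • a = a := by
    rw [mul_smul, mul_smul, ← hg, inv_smul_smul, hc]
  have hss : (g * u * g⁻¹) * (g * u * g⁻¹) = 1 := by
    have : (g * u * g⁻¹) * (g * u * g⁻¹) = g * (u * u) * g⁻¹ := by group
    rw [this, hu]; group
  have hsQ : g * u * g⁻¹ ∈ Q := invol_mem_Q hS (mem_stabilizer_iff.mpr hsa) hss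
  have hs1 : g * u * g⁻¹ ≠ 1 := by
    intro h
    apply hu1
    have : u = g⁻¹ * (g * u * g⁻¹) * g := by group
    rw [this, h]; group
  have hsd : (g * u * g⁻¹) • (g • d) = g • d := by
    rw [mul_smul, mul_smul, inv_smul_smul, hd]
  have h1 := (Q_fixed_iff hS hsQ hs1).mp hsd
  have h2 : g • d = g • c := by rw [h1, hg]
  exact (smul_left_cancel g h2).symm

/-- Involutions of `G_a` (non-identity) fix only `a`. -/
theorem invol_stab_fixed_iff [Finite G] (hS : Cfsg.IsRankOneSetup G Ω a t Q) {s : G}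
    (hs : s ∈ stabilizer G a) (hss : s * s = 1) (hs1 : s ≠ 1) {c : Ω} : s • c = c ↔ c = a :=
  Q_fixed_iff hS (invol_mem_Q hS hs hss) hs1

/-- `s u` has odd order when `s ∈ G_a`, `u ∉ G_a` are involutions. -/
theorem odd_orderOf_mul [Finite G] (hS : Cfsg.IsRankOneSetup G Ω a t Q) {s u : G}
    (hs : s ∈ stabilizer G a) (hs1 : s ≠ 1) (hss : s * s = 1)
    (hu : u ∉ stabilizer G a) (huu : u * u = 1) : Odd (orderOf (s * u)) := by
  rw [← Nat.not_even_iff_odd]
  rintro ⟨k, hk⟩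
  have hk' : orderOf (s * u) = 2 * k := by rw [hk, two_mul]
  have hpos : 0 < orderOf (s * u) := orderOf_pos _
  have hk0 : 0 < k := by omega
  obtain ⟨hz1, hzz, hzs, hzu⟩ := invol_central_of_even hss huu hk' hk0
  set z := (s * u) ^ k with hz
  -- z fixes a
  have hza : z • a = a := by
    apply (invol_stab_fixed_iff hS hs hss hs1).mp
    rw [← mul_smul, ← hzs, mul_smul, mem_stabilizer_iff.mp hs]
  -- u fixes a
  apply hu
  rw [mem_stabilizer_iff]
  apply (invol_stab_fixed_iff hS (mem_stabilizer_iff.mpr hza) hzz hz1).mp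
  rw [← mul_smul, hzu, mul_smul, hza]

/-- Every involution is conjugate to `t`. -/
theorem invol_conj_t [Finite G] (hS : Cfsg.IsRankOneSetup G Ω a t Q) {u : G} (hu1 : u ≠ 1)
    (huu : u * u = 1) : ∃ g : G, g * u * g⁻¹ = t := by
  have := pretransitive hS
  obtain ⟨c, hc⟩ := invol_fixed_exists hS huu
  obtain ⟨h, hh⟩ := exists_smul_eq G c a
  have hsa : (h * u * h⁻¹) • a = a := by
    rw [mul_smul, mul_smul, ← hh, inv_smul_smul, hc]
  have hss : (h * u * h⁻¹) * (h * u * h⁻¹) = 1 := by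
    have : (h * u * h⁻¹) * (h * u * h⁻¹) = h * (u * u) * h⁻¹ := by group
    rw [this, huu]; group
  have hs1 : h * u * h⁻¹ ≠ 1 := by
    intro h'
    apply hu1
    have : u = h⁻¹ * (h * u * h⁻¹) * h := by group
    rw [this, h']; group
  have hodd := odd_orderOf_mul hS (mem_stabilizer_iff.mpr hsa) hs1 hss hS.not_mem hS.mul_self
  obtain ⟨k, hk⟩ := hodd
  have hpow : ((h * u * h⁻¹) * t) ^ (2 * k + 1) = 1 := by rw [← hk, pow_orderOf_eq_one]
  obtain ⟨w, hw⟩ : ∃ w : G, w * (h * u * h⁻¹) * w⁻¹ = t :=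
    ⟨_, invol_conj_of_odd hss hS.mul_self hpow⟩
  refine ⟨w * h, ?_⟩
  rw [← hw]; group

/-- `|G_a| = |Q| |D|`. -/
theorem card_stab [Finite G] (hS : Cfsg.IsRankOneSetup G Ω a t Q) :
    Nat.card (stabilizer G a) =
      Nat.card Q * Nat.card ↥(stabilizer G a ⊓ stabilizer G (t • a)) := by
  rw [← Nat.card_prod]
  symm
  let f : Q × ↥(stabilizer G a ⊓ stabilizer G (t • a)) → stabilizer G a :=
    fun p => ⟨(p.1 : G) * (p.2 : G), Subgroup.mul_mem _ (hS.le p.1.2) p.2.2.1⟩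
  refine Nat.card_congr (Equiv.ofBijective f ⟨?_, ?_⟩)
  · rintro ⟨⟨q1, hq1⟩, ⟨d1, hd1⟩⟩ ⟨⟨q2, hq2⟩, ⟨d2, hd2⟩⟩ h
    have hx : q1 * d1 = q2 * d2 := congrArg Subtype.val h
    have h1 : q2⁻¹ * q1 = d2 * d1⁻¹ := by
      calc q2⁻¹ * q1 = q2⁻¹ * (q1 * d1) * d1⁻¹ := by group
        _ = d2 * d1⁻¹ := by rw [hx]; group
    have h2 : q2⁻¹ * q1 ∈ Q ⊓ stabilizer G (t • a) := by
      refine ⟨Q.mul_mem (Q.inv_mem hq2) hq1, ?_⟩
      rw [h1]
      exact Subgroup.mul_mem _ hd2.2 (Subgroup.inv_mem _ hd1.2)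
    rw [hS.inf_eq_bot, Subgroup.mem_bot] at h2
    have h3 : q1 = q2 := by
      calc q1 = q2 * (q2⁻¹ * q1) := by group
        _ = q2 := by rw [h2, mul_one]
    have h4 : d1 = d2 := by
      subst h3
      exact mul_left_cancel hx
    subst h3; subst h4; rfl
  · rintro ⟨g, hg⟩
    obtain ⟨q, hq, d, hd, rfl⟩ := (mem_stab_iff hS).mp hg
    exact ⟨(⟨q, hq⟩, ⟨d, hd⟩), rfl⟩

/-- `|G| = |Q| |D| (|Q| + 1)`. -/
theorem card_G [Finite G] (hS : Cfsg.IsRankOneSetup G Ω a t Q) :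
    Nat.card G = Nat.card Q * Nat.card ↥(stabilizer G a ⊓ stabilizer G (t • a)) *
      (Nat.card Q + 1) := by
  have := pretransitive hS
  rw [← card_stab hS, ← card_Omega hS, ← index_stabilizer_of_transitive G a,
    Subgroup.card_mul_index]

/-- Some Sylow 2-subgroup of `G` lies in `Q`. -/
theorem exists_sylow_le_Q [Finite G] (hS : Cfsg.IsRankOneSetup G Ω a t Q) :
    ∃ P : Sylow 2 G, (P : Subgroup G) ≤ Q := by
  have : Fact (Nat.Prime 2) := ⟨Nat.prime_two⟩
  obtain ⟨P0⟩ : Nonempty (Sylow 2 Q) := inferInstance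
  have h1 : Nat.card ((P0 : Subgroup Q).map Q.subtype) = 2 ^ (Nat.card G).factorization 2 := by
    rw [Subgroup.card_map_of_injective Q.subtype_injective, P0.card_eq_multiplicity, card_G hS]
    congr 1
    have hQ0 : Nat.card Q ≠ 0 := Nat.card_pos.ne'
    have hD0 : Nat.card ↥(stabilizer G a ⊓ stabilizer G (t • a)) ≠ 0 := Nat.card_pos.ne'
    rw [Nat.factorization_mul (mul_ne_zero hQ0 hD0) (Nat.succ_ne_zero _),
      Nat.factorization_mul hQ0 hD0]
    have e1 : (Nat.card ↥(stabilizer G a ⊓ stabilizer G (t • a))).factorization 2 = 0 := by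
      apply Nat.factorization_eq_zero_of_not_dvd
      rw [← even_iff_two_dvd, Nat.not_even_iff_odd]
      exact hS.odd_card
    have e2 : (Nat.card Q + 1).factorization 2 = 0 := by
      apply Nat.factorization_eq_zero_of_not_dvd
      rw [← even_iff_two_dvd, Nat.not_even_iff_odd]
      exact hS.even_card.add_one
    rw [Finsupp.add_apply, Finsupp.add_apply, e1, e2, add_zero, add_zero]
  refine ⟨Sylow.ofCard _ h1, ?_⟩
  rw [Sylow.coe_ofCard]
  exact Subgroup.map_subtype_le _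

/-- Canonical form: every `g ∉ G_a` is uniquely `x * t * y` with `x ∈ G_a`, `y ∈ Q`. -/
theorem canonical_form (hS : Cfsg.IsRankOneSetup G Ω a t Q) {g : G} (hg : g ∉ stabilizer G a) :
    ∃! p : G × G, p.1 ∈ stabilizer G a ∧ p.2 ∈ Q ∧ g = p.1 * t * p.2 := by
  have hg' : g⁻¹ • a ≠ a := by
    intro h
    apply hg
    have : g⁻¹ ∈ stabilizer G a := mem_stabilizer_iff.mpr h
    simpa using Subgroup.inv_mem _ this
  -- the unique `y ∈ Q` with `y⁻¹ • (t • a) = g⁻¹ • a`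
  obtain ⟨z, hzQ, hz⟩ := Q_trans hS (ta_ne hS) hg'
  have key : ∀ x y : G, x ∈ stabilizer G a → y ∈ Q → g = x * t * y → y = z⁻¹ := by
    intro x y hx hy hgxy
    have h1 : g⁻¹ • a = y⁻¹ • (t • a) := by
      rw [hgxy]
      simp only [mul_inv_rev, mul_smul]
      rw [mem_stabilizer_iff.mp (Subgroup.inv_mem _ hx), t_inv hS]
    have h2 : y⁻¹ = z := Q_smul_eq_imp hS (Q.inv_mem hy) hzQ (ta_ne hS) (by rw [← h1, hz])
    rw [← h2, inv_inv]
  refine ⟨(g * z * t, z⁻¹), ⟨?_, Q.inv_mem hzQ, ?_⟩, ?_⟩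
  · show g * z * t ∈ stabilizer G a
    rw [mem_stabilizer_iff, mul_smul, mul_smul, hz, smul_inv_smul]
  · show g = g * z * t * t * z⁻¹
    rw [mul_assoc (g * z), hS.mul_self]; group
  · rintro ⟨x, y⟩ ⟨hx, hy, hgxy⟩
    have hy' : y = z⁻¹ := key x y hx hy hgxy
    have hx' : x = g * z * t := by
      have : x = (x * t * y) * y⁻¹ * t⁻¹ := by group
      rw [this, ← hgxy, hy', inv_inv, t_inv hS]
    rw [hx', hy']

end Setup

end Cfsg.Agent.Helper19
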