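import Cfsg.Agent.Helper19.RankOne2

set_option autoImplicit false

/-!
Structure equation and the set `K` of elements of `D` inverted by `t`.
-/

namespace Cfsg.Agent.Helper19

open MulAction
open scoped Pointwise

section Dihedral2

variable {G : Type*} [Group G]

/-- The involution of the dihedral group `⟨s, u⟩` (with `s u` of odd order `2m+1`) swapping `s` and `u`. -/
def dihInv (s u : G) (m : ℕ) : G := ((s * u)⁻¹) ^ (m + 1) * s

theorem invol_conj_inv_pow {s u : G} (hs : s * s = 1) (hu : u * u = 1) (n : ℕ) :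
    s * ((s * u)⁻¹) ^ n * s⁻¹ = (s * u) ^ n := by
  have h := invol_conj_pow hs hu n
  calc s * ((s * u)⁻¹) ^ n * s⁻¹ = s * ((s * u) ^ n)⁻¹ * s⁻¹ := by rw [inv_pow]
    _ = (s * (s * u) ^ n * s⁻¹)⁻¹ := by group
    _ = (((s * u)⁻¹) ^ n)⁻¹ := by rw [h]
    _ = (s * u) ^ n := by rw [inv_pow, inv_inv]

theorem dihInv_mul_self {s u : G} (hs : s * s = 1) (hu : u * u = 1) (m : ℕ) :
    dihInv s u m * dihInv s u m = 1 := by
  unfold dihInv
  have h := invol_conj_inv_pow hs hu (m + 1)
  rw [inv_eq_self_of_mul_self hs] at h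
  calc ((s * u)⁻¹) ^ (m + 1) * s * (((s * u)⁻¹) ^ (m + 1) * s)
      = ((s * u)⁻¹) ^ (m + 1) * (s * ((s * u)⁻¹) ^ (m + 1) * s) := by group
    _ = ((s * u)⁻¹) ^ (m + 1) * (s * u) ^ (m + 1) := by rw [h]
    _ = 1 := by rw [inv_pow, inv_mul_cancel]

theorem dihInv_conj {s u : G} (hs : s * s = 1) (hu : u * u = 1) {m : ℕ}
    (hm : (s * u) ^ (2 * m + 1) = 1) :
    dihInv s u m * s * dihInv s u m = u := by
  have h1 := invol_conj_of_odd hs hu hm
  have h2 := dihInv_mul_self hs hu m
  have h3 : (dihInv s u m)⁻¹ = dihInv s u m := inv_eq_self_of_mul_self h2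
  calc dihInv s u m * s * dihInv s u m = dihInv s u m * s * (dihInv s u m)⁻¹ := by rw [h3]
    _ = ((s * u)⁻¹) ^ (m + 1) * s * (((s * u)⁻¹) ^ (m + 1))⁻¹ := by unfold dihInv; group
    _ = u := h1

theorem dihInv_commute {s u d : G} (h1 : Commute d s) (h2 : Commute d u) (m : ℕ) :
    Commute d (dihInv s u m) := by
  unfold dihInv
  exact (((h1.mul_right h2).inv_right).pow_right _).mul_right h1

end Dihedral2

section Setup

variable {G Ω : Type*} [Group G] [MulAction G Ω] {a : Ω} {t : G} {Q : Subgroup G}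

theorem conj_t_mul_self (hS : Cfsg.IsRankOneSetup G Ω a t Q) {s' : G} (hs' : s' * s' = 1) :
    (t * s' * t) * (t * s' * t) = 1 := by
  have : (t * s' * t) * (t * s' * t) = t * s' * (t * t) * s' * t := by group
  rw [this, hS.mul_self, mul_one, mul_assoc t, hs', mul_one, hS.mul_self]

theorem conj_t_ne_one (hS : Cfsg.IsRankOneSetup G Ω a t Q) {s' : G} (hs' : s' ≠ 1) :
    t * s' * t ≠ 1 := by
  intro h
  apply hs'
  have : s' = t * (t * s' * t) * t := by
    have : t * (t * s' * t) * t = (t * t) * s' * (t * t) := by group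
    rw [this, hS.mul_self, one_mul, mul_one]
  rw [this, h, mul_one, hS.mul_self]

/-- `t s' t` fixes only `t • a`, for `s'` an involution of `G_a`. -/
theorem conj_t_fixed_iff [Finite G] (hS : Cfsg.IsRankOneSetup G Ω a t Q) {s' : G}
    (hs' : s' ∈ Cfsg.involutionsIn (stabilizer G a : Set G)) {c : Ω} :
    (t * s' * t) • c = c ↔ c = t • a := by
  obtain ⟨h1, h2, h3⟩ := hs'
  constructor
  · intro h
    rw [mul_smul, mul_smul] at h
    have h4 : s' • (t • c) = t • c := by
      have := congrArg (fun x => t • x) h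
      simp only [t_smul_t_smul hS] at this
      exact this
    have h5 := (invol_stab_fixed_iff hS h1 h3 h2).mp h4
    rw [← h5, t_smul_t_smul hS]
  · rintro rfl
    rw [mul_smul, mul_smul, t_smul_t_smul hS, mem_stabilizer_iff.mp h1]

theorem conj_t_not_mem [Finite G] (hS : Cfsg.IsRankOneSetup G Ω a t Q) {s' : G}
    (hs' : s' ∈ Cfsg.involutionsIn (stabilizer G a : Set G)) : t * s' * t ∉ stabilizer G a := by
  intro h
  have := (conj_t_fixed_iff hS hs').mp (mem_stabilizer_iff.mp h)
  exact ta_ne hS this.symm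

/-- For involutions `s, s'` of `G_a` there is an involution `w` swapping `a` and `t • a` with
`w s w = t s' t`, lying in `⟨s, t s' t⟩`. -/
theorem exists_swap [Finite G] (hS : Cfsg.IsRankOneSetup G Ω a t Q) {s s' : G}
    (hs : s ∈ Cfsg.involutionsIn (stabilizer G a : Set G))
    (hs' : s' ∈ Cfsg.involutionsIn (stabilizer G a : Set G)) :
    ∃ w : G, w * w = 1 ∧ w * s * w = t * s' * t ∧ w • a = t • a ∧
      ∀ d : G, Commute d s → Commute d (t * s' * t) → Commute d w := by
  have hodd := odd_orderOf_mul hS hs.1 hs.2.1 hs.2.2 (conj_t_not_mem hS hs')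
    (conj_t_mul_self hS hs'.2.2)
  obtain ⟨m, hm⟩ := hodd
  have hpow : (s * (t * s' * t)) ^ (2 * m + 1) = 1 := by rw [← hm, pow_orderOf_eq_one]
  have hww := dihInv_mul_self hs.2.2 (conj_t_mul_self hS hs'.2.2) m
  have hconj := dihInv_conj hs.2.2 (conj_t_mul_self hS hs'.2.2) hpow
  have hcomm : ∀ d : G, Commute d s → Commute d (t * s' * t) → Commute d (dihInv s (t * s' * t) m) :=
    fun d h1 h2 => dihInv_commute h1 h2 m
  obtain ⟨w, hw⟩ : ∃ w, w = dihInv s (t * s' * t) m := ⟨_, rfl⟩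
  rw [← hw] at hww hconj hcomm
  refine ⟨w, hww, hconj, ?_, hcomm⟩
  apply (conj_t_fixed_iff hS hs').mp
  rw [← hconj]
  rw [mul_smul, ← mul_smul w w, hww, one_smul, mul_smul, mem_stabilizer_iff.mp hs.1]

/-- Uniqueness of the swapping involution. -/
theorem swap_unique [Finite G] (hS : Cfsg.IsRankOneSetup G Ω a t Q) {s s' : G}
    (hs : s ∈ Cfsg.involutionsIn (stabilizer G a : Set G))
    (hs' : s' ∈ Cfsg.involutionsIn (stabilizer G a : Set G))
    {u₁ u₂ : G} (h₁ : u₁ * u₁ = 1) (h₁a : u₁ • a = t • a) (h₁s : u₁ * s * u₁ = t * s' * t)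
    (h₂ : u₂ * u₂ = 1) (h₂a : u₂ • a = t • a) (h₂s : u₂ * s * u₂ = t * s' * t) : u₁ = u₂ := by
  obtain ⟨w, hww, hws, hwa, hwc⟩ := exists_swap hS hs hs'
  have key : ∀ u : G, u * u = 1 → u • a = t • a → u * s * u = t * s' * t → u = w := by
    intro u huu hua hus
    have hwb : w • (t • a) = a := by rw [← hwa, ← mul_smul, hww, one_smul]
    have hub : u • (t • a) = a := by rw [← hua, ← mul_smul, huu, one_smul]
    have hd : u * w ∈ stabilizer G a ⊓ stabilizer G (t • a) := by
      refine ⟨?_, ?_⟩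
      · show u * w ∈ stabilizer G a
        rw [mem_stabilizer_iff, mul_smul, hwa, hub]
      · show u * w ∈ stabilizer G (t • a)
        rw [mem_stabilizer_iff, mul_smul, hwb, hua]
    have hwinv : w⁻¹ = w := inv_eq_self_of_mul_self hww
    have huinv : u⁻¹ = u := inv_eq_self_of_mul_self huu
    -- s = u (t s' t) u, s = w (t s' t) w
    have hus' : u * (t * s' * t) * u = s := by
      rw [← hus]
      have : u * (u * s * u) * u = (u * u) * s * (u * u) := by group
      rw [this, huu, one_mul, mul_one]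
    have hws' : w * (t * s' * t) * w = s := by
      rw [← hws]
      have : w * (w * s * w) * w = (w * w) * s * (w * w) := by group
      rw [this, hww, one_mul, mul_one]
    have c1 : Commute (u * w) s := by
      show u * w * s = s * (u * w)
      calc u * w * s = u * (w * s * w) * w := by
            have : u * (w * s * w) * w = u * w * s * (w * w) := by group
            rw [this, hww, mul_one]
        _ = u * (t * s' * t) * w := by rw [hws]
        _ = (u * (t * s' * t) * u) * (u * w) := by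
            have : (u * (t * s' * t) * u) * (u * w) = u * (t * s' * t) * (u * u) * w := by group
            rw [this, huu, mul_one]
        _ = s * (u * w) := by rw [hus']
    have c2 : Commute (u * w) (t * s' * t) := by
      show u * w * (t * s' * t) = (t * s' * t) * (u * w)
      calc u * w * (t * s' * t) = u * (w * (t * s' * t) * w) * w := by
            have : u * (w * (t * s' * t) * w) * w = u * w * (t * s' * t) * (w * w) := by group
            rw [this, hww, mul_one]
        _ = u * s * w := by rw [hws']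
        _ = (u * s * u) * (u * w) := by
            have : (u * s * u) * (u * w) = u * s * (u * u) * w := by group
            rw [this, huu, mul_one]
        _ = (t * s' * t) * (u * w) := by rw [hus]
    have c3 : Commute (u * w) w := hwc _ c1 c2
    have h4 : (u * w) * (u * w) = 1 := by
      calc (u * w) * (u * w) = u * (w * (u * w)) := by group
        _ = u * ((u * w) * w) := by rw [c3.eq]
        _ = (u * u) * (w * w) := by group
        _ = 1 := by rw [huu, hww, one_mul]
    have h5 : u * w = 1 := eq_one_of_mul_self_of_odd _ hS.odd_card hd h4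
    calc u = (u * w) * w⁻¹ := by group
      _ = w := by rw [h5, hwinv, one_mul]
  rw [key u₁ h₁ h₁a h₁s, key u₂ h₂ h₂a h₂s]

/-- Conjugates of involutions of `G_a` by elements of `G_a` are involutions of `G_a`. -/
theorem conj_mem_involutionsIn {s k : G} (hs : s ∈ Cfsg.involutionsIn (stabilizer G a : Set G))
    (hk : k ∈ stabilizer G a) : k⁻¹ * s * k ∈ Cfsg.involutionsIn (stabilizer G a : Set G) := by
  obtain ⟨h1, h2, h3⟩ := hs
  refine ⟨?_, ?_, ?_⟩
  · exact Subgroup.mul_mem _ (Subgroup.mul_mem _ (Subgroup.inv_mem _ hk) h1) hk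
  · intro h
    apply h2
    have : s = k * (k⁻¹ * s * k) * k⁻¹ := by group
    rw [this, h]; group
  · have : k⁻¹ * s * k * (k⁻¹ * s * k) = k⁻¹ * (s * s) * k := by group
    rw [this, h3]; group

theorem K_mul_t (hS : Cfsg.IsRankOneSetup G Ω a t Q) {k : G}
    (hk : k ∈ Cfsg.invertedBy (stabilizer G a ⊓ stabilizer G (t • a)) t) :
    (k * t) * (k * t) = 1 ∧ (k * t) • a = t • a ∧ k * t = t * k⁻¹ := by
  obtain ⟨hkD, hkt⟩ := hk
  rw [t_inv hS] at hkt
  have h1 : k * t = t * k⁻¹ := by
    rw [← hkt]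
    have : t * (t * k * t) = (t * t) * k * t := by group
    rw [this, hS.mul_self, one_mul]
  refine ⟨?_, ?_, h1⟩
  · calc (k * t) * (k * t) = k * (t * k * t) := by group
      _ = 1 := by rw [hkt, mul_inv_cancel]
  · rw [mul_smul, mem_stabilizer_iff.mp hkD.2]

theorem exists_K_conj [Finite G] (hS : Cfsg.IsRankOneSetup G Ω a t Q) {s s' : G}
    (hs : s ∈ Cfsg.involutionsIn (stabilizer G a : Set G))
    (hs' : s' ∈ Cfsg.involutionsIn (stabilizer G a : Set G)) :
    ∃ k ∈ Cfsg.invertedBy (stabilizer G a ⊓ stabilizer G (t • a)) t, k⁻¹ * s * k = s' := by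
  obtain ⟨w, hww, hws, hwa, -⟩ := exists_swap hS hs hs'
  have hwinv : w⁻¹ = w := inv_eq_self_of_mul_self hww
  have hwb : w • (t • a) = a := by rw [← hwa, ← mul_smul, hww, one_smul]
  refine ⟨w * t, ⟨⟨?_, ?_⟩, ?_⟩, ?_⟩
  · show w * t ∈ stabilizer G a
    rw [mem_stabilizer_iff, mul_smul, hwb]
  · show w * t ∈ stabilizer G (t • a)
    rw [mem_stabilizer_iff, mul_smul, t_smul_t_smul hS, hwa]
  · rw [mul_inv_rev, t_inv hS, hwinv]
    have : t * (w * t) * t = t * w * (t * t) := by group
    rw [this, hS.mul_self, mul_one]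
  · rw [mul_inv_rev, t_inv hS, hwinv]
    calc t * w * s * (w * t) = t * (w * s * w) * t := by group
      _ = t * (t * s' * t) * t := by rw [hws]
      _ = (t * t) * s' * (t * t) := by group
      _ = s' := by rw [hS.mul_self, one_mul, mul_one]

theorem K_conj_inj [Finite G] (hS : Cfsg.IsRankOneSetup G Ω a t Q) {s : G}
    (hs : s ∈ Cfsg.involutionsIn (stabilizer G a : Set G)) {k₁ k₂ : G}
    (hk₁ : k₁ ∈ Cfsg.invertedBy (stabilizer G a ⊓ stabilizer G (t • a)) t)
    (hk₂ : k₂ ∈ Cfsg.invertedBy (stabilizer G a ⊓ stabilizer G (t • a)) t)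
    (h : k₁⁻¹ * s * k₁ = k₂⁻¹ * s * k₂) : k₁ = k₂ := by
  have hs' := conj_mem_involutionsIn hs hk₁.1.1
  obtain ⟨h1, h1a, h1e⟩ := K_mul_t hS hk₁
  obtain ⟨h2, h2a, h2e⟩ := K_mul_t hS hk₂
  have e1 : (k₁ * t) * s * (k₁ * t) = t * (k₁⁻¹ * s * k₁) * t := by
    nth_rewrite 1 [h1e]; group
  have e2 : (k₂ * t) * s * (k₂ * t) = t * (k₁⁻¹ * s * k₁) * t := by
    nth_rewrite 1 [h2e]; rw [h]; group
  have := swap_unique hS hs hs' h1 h1a e1 h2 h2a e2
  exact mul_right_cancel this

/-- `t` has a fixed point, different from `a`. -/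
theorem exists_t_fixed [Finite G] (hS : Cfsg.IsRankOneSetup G Ω a t Q) :
    ∃ c : Ω, t • c = c ∧ c ≠ a := by
  obtain ⟨c, hc⟩ := invol_fixed_exists hS hS.mul_self
  refine ⟨c, hc, ?_⟩
  rintro rfl
  exact ta_ne hS hc

/-- The structure equation: there is a unique pair `(s, r)`, `s` an involution of `G_a`, `r ∈ Q`,
with `t s t = r⁻¹ t r`. -/
theorem structure_equation [Finite G] (hS : Cfsg.IsRankOneSetup G Ω a t Q) :
    ∃! p : G × G, p.1 ∈ Cfsg.involutionsIn (stabilizer G a : Set G) ∧ p.2 ∈ Q ∧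
      t * p.1 * t = p.2⁻¹ * t * p.2 := by
  obtain ⟨c, hc, hca⟩ := exists_t_fixed hS
  obtain ⟨r, hrQ, hr⟩ := Q_trans hS (ta_ne hS) hca
  have htt := hS.mul_self
  refine ⟨(t * (r⁻¹ * t * r) * t, r), ⟨⟨?_, ?_, ?_⟩, hrQ, ?_⟩, ?_⟩
  · show t * (r⁻¹ * t * r) * t ∈ stabilizer G a
    rw [mem_stabilizer_iff]
    simp only [mul_smul]
    rw [hr, hc, ← hr, inv_smul_smul, t_smul_t_smul hS]
  · intro h
    replace h : t * (r⁻¹ * t * r) * t = 1 := h
    have h2 : r⁻¹ * t * r = 1 := by
      have : r⁻¹ * t * r = t * (t * (r⁻¹ * t * r) * t) * t := by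
        have : t * (t * (r⁻¹ * t * r) * t) * t = (t * t) * (r⁻¹ * t * r) * (t * t) := by group
        rw [this, htt, one_mul, mul_one]
      rw [this, h, mul_one, htt]
    apply hS.ne_one
    have : t = r * (r⁻¹ * t * r) * r⁻¹ := by group
    rw [this, h2]; group
  · have : t * (r⁻¹ * t * r) * t * (t * (r⁻¹ * t * r) * t) =
        t * (r⁻¹ * t * r) * (t * t) * (r⁻¹ * t * r) * t := by group
    rw [this, htt, mul_one]
    have : t * (r⁻¹ * t * r) * (r⁻¹ * t * r) * t = t * (r⁻¹ * (t * t) * r) * t := by group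
    rw [this, htt]
    have : t * (r⁻¹ * 1 * r) * t = t * t := by group
    rw [this, htt]
  · show t * (t * (r⁻¹ * t * r) * t) * t = r⁻¹ * t * r
    have : t * (t * (r⁻¹ * t * r) * t) * t = (t * t) * (r⁻¹ * t * r) * (t * t) := by group
    rw [this, htt, one_mul, mul_one]
  · rintro ⟨s', r'⟩ ⟨hs', hr'Q, heq⟩
    simp only at hs' hr'Q heq
    -- r' • (t • a) is fixed by t
    have h1 : (t * s' * t) • (t • a) = t • a := (conj_t_fixed_iff hS hs').mpr rfl
    rw [heq] at h1
    have h2 : t • (r' • (t • a)) = r' • (t • a) := by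
      simp only [mul_smul] at h1
      have := congrArg (fun x => r' • x) h1
      simp only [smul_inv_smul] at this
      exact this
    have h3 : r' • (t • a) = c := invol_fixed_unique hS htt hS.ne_one h2 hc
    have h4 : r' = r := Q_smul_eq_imp hS hr'Q hrQ (ta_ne hS) (h3.trans hr.symm)
    have h5 : s' = t * (r⁻¹ * t * r) * t := by
      rw [← h4, ← heq]
      have : t * (t * s' * t) * t = (t * t) * s' * (t * t) := by group
      rw [this, htt, one_mul, mul_one]
    rw [h4, h5]

/-- `G_a` contains an involution. -/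
theorem exists_involution_stab [Finite G] (hS : Cfsg.IsRankOneSetup G Ω a t Q) :
    ∃ s : G, s ∈ Cfsg.involutionsIn (stabilizer G a : Set G) := by
  have : Fact (Nat.Prime 2) := ⟨Nat.prime_two⟩
  obtain ⟨x, hx⟩ := exists_prime_orderOf_dvd_card' (G := Q) 2 (even_iff_two_dvd.mp hS.even_card)
  refine ⟨(x : G), hS.le x.2, ?_, ?_⟩
  · intro h
    have : x = 1 := Subtype.ext h
    rw [this, orderOf_one] at hx
    omega
  · have h1 : x ^ 2 = 1 := by rw [← hx]; exact pow_orderOf_eq_one x
    have h2 := congrArg Subtype.val h1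
    rw [pow_two] at h2
    exact h2

/-- `|K|` equals the number of involutions of `G_a`. -/
theorem card_K [Finite G] (hS : Cfsg.IsRankOneSetup G Ω a t Q) :
    Nat.card (Cfsg.invertedBy (stabilizer G a ⊓ stabilizer G (t • a)) t) =
      Nat.card (Cfsg.involutionsIn (stabilizer G a : Set G)) := by
  obtain ⟨s₀, hs₀⟩ := exists_involution_stab hS
  let f : Cfsg.invertedBy (stabilizer G a ⊓ stabilizer G (t • a)) t →
      Cfsg.involutionsIn (stabilizer G a : Set G) :=
    fun k => ⟨(k : G)⁻¹ * s₀ * (k : G), conj_mem_involutionsIn hs₀ k.2.1.1⟩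
  refine Nat.card_congr (Equiv.ofBijective f ⟨?_, ?_⟩)
  · rintro ⟨k₁, hk₁⟩ ⟨k₂, hk₂⟩ h
    have h' : k₁⁻¹ * s₀ * k₁ = k₂⁻¹ * s₀ * k₂ := congrArg Subtype.val h
    exact Subtype.ext (K_conj_inj hS hs₀ hk₁ hk₂ h')
  · rintro ⟨s', hs'⟩
    obtain ⟨k, hk, hks⟩ := exists_K_conj hS hs₀ hs'
    exact ⟨⟨k, hk⟩, Subtype.ext hks⟩

end Setup

end Cfsg.Agent.Helper19
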