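import Cfsg.Agent.Helper19.RankOne3
import Cfsg.Prelude.Def_Solvable

set_option autoImplicit false

/-!
Normal subgroups of odd order in the rank-one set-up (2-rank at least 2) act trivially.
-/

namespace Cfsg.Agent.Helper19

open MulAction
open scoped Pointwise

section Setup

variable {G Ω : Type*} [Group G] [MulAction G Ω] {a : Ω} {t : G} {Q : Subgroup G}

theorem invol_fixed_of_commute [Finite G] (hS : Cfsg.IsRankOneSetup G Ω a t Q) {x y : G}
    (hxx : x * x = 1) (hx1 : x ≠ 1) (hxy : x * y = y * x) {p : Ω} (hp : x • p = p) : y • p = p := by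
  have h1 : x • (y • p) = y • p := by rw [← mul_smul, hxy, mul_smul, hp]
  exact invol_fixed_unique hS hxx hx1 h1 hp

theorem conj_mul_self {x : G} (hxx : x * x = 1) (g : G) : (g * x * g⁻¹) * (g * x * g⁻¹) = 1 := by
  have : (g * x * g⁻¹) * (g * x * g⁻¹) = g * (x * x) * g⁻¹ := by group
  rw [this, hxx]; group

theorem conj_ne_one {x : G} (hx1 : x ≠ 1) (g : G) : g * x * g⁻¹ ≠ 1 := by
  intro h
  apply hx1
  have : x = g⁻¹ * (g * x * g⁻¹) * g := by group
  rw [this, h]; group

/-- A normal subgroup of odd order fixes the common fixed point of two commuting involutions. -/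
theorem normal_odd_fixes [Finite G] (hS : Cfsg.IsRankOneSetup G Ω a t Q) {x y : G}
    (hx1 : x ≠ 1) (hy1 : y ≠ 1) (hxy : x ≠ y) (hxx : x * x = 1) (hyy : y * y = 1)
    (hcomm : x * y = y * x) {p : Ω} (hp : x • p = p)
    (N : Subgroup G) [hN : N.Normal] (hodd : Odd (Nat.card N)) {g : G} (hg : g ∈ N) : g • p = p := by
  have hyp : y • p = p := invol_fixed_of_commute hS hxx hx1 hcomm hp
  have hx'x' := conj_mul_self hxx g
  have hx'1 := conj_ne_one hx1 g
  have hx'p : (g * x * g⁻¹) • (g • p) = g • p := by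
    rw [mul_smul, mul_smul, inv_smul_smul, hp]
  -- e = x y is an involution not in N
  have hee : (x * y) * (x * y) = 1 := by
    calc (x * y) * (x * y) = x * (y * x) * y := by group
      _ = x * (x * y) * y := by rw [hcomm]
      _ = (x * x) * (y * y) := by group
      _ = 1 := by rw [hxx, hyy, one_mul]
  have he1 : x * y ≠ 1 := by
    intro h
    apply hxy
    have : y = x⁻¹ := eq_inv_of_mul_eq_one_right h
    rw [this, inv_eq_self_of_mul_self hxx]
  have heN : x * y ∉ N := fun h => he1 (eq_one_of_mul_self_of_odd N hodd h hee)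
  -- the order of x' y is even
  have heven : Even (orderOf ((g * x * g⁻¹) * y)) := by
    rw [← Nat.not_odd_iff_even]
    rintro ⟨m, hm⟩
    have hpow : ((g * x * g⁻¹) * y) ^ (2 * m + 1) = 1 := by rw [← hm, pow_orderOf_eq_one]
    have h1 := congrArg (QuotientGroup.mk' N) hpow
    rw [map_pow, map_mul, map_mul, map_mul, map_one] at h1
    have hg1 : (QuotientGroup.mk' N) g = 1 := (QuotientGroup.eq_one_iff g).mpr hg
    rw [map_inv, hg1, one_mul, inv_one, mul_one, ← map_mul] at h1
    have h2 : (QuotientGroup.mk' N) (x * y) ^ 2 = 1 := by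
      rw [← map_pow, pow_two, hee, map_one]
    rw [pow_succ, pow_mul, h2, one_pow, one_mul] at h1
    exact heN ((QuotientGroup.eq_one_iff _).mp h1)
  obtain ⟨k, hk⟩ := heven
  have hk' : orderOf ((g * x * g⁻¹) * y) = 2 * k := by rw [hk, two_mul]
  have hpos : 0 < orderOf ((g * x * g⁻¹) * y) := orderOf_pos _
  have hk0 : 0 < k := by omega
  obtain ⟨hz1, hzz, hzx, hzy⟩ := invol_central_of_even hx'x' hyy hk' hk0
  set z := ((g * x * g⁻¹) * y) ^ k with hz
  have hzp : z • p = p := invol_fixed_of_commute hS hyy hy1 hzy.symm hyp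
  have hx'p' : (g * x * g⁻¹) • p = p := invol_fixed_of_commute hS hzz hz1 hzx hzp
  exact invol_fixed_unique hS hx'x' hx'1 hx'p hx'p'

/-- A normal subgroup of odd order lies in `G_a` (when `G` has two distinct commuting involutions). -/
theorem normal_odd_le_stab [Finite G] (hS : Cfsg.IsRankOneSetup G Ω a t Q)
    (h2 : ∃ x y : G, x ≠ 1 ∧ y ≠ 1 ∧ x ≠ y ∧ x * x = 1 ∧ y * y = 1 ∧ x * y = y * x)
    (N : Subgroup G) [hN : N.Normal] (hodd : Odd (Nat.card N)) : N ≤ stabilizer G a := by
  obtain ⟨x, y, hx1, hy1, hxy, hxx, hyy, hcomm⟩ := h2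
  obtain ⟨p, hp⟩ := invol_fixed_exists hS hxx
  have := pretransitive hS
  obtain ⟨h, hh⟩ := exists_smul_eq G p a
  intro g hg
  rw [mem_stabilizer_iff, ← hh]
  have h1 : h⁻¹ * g * h ∈ N := by
    have := hN.conj_mem g hg h⁻¹
    rwa [inv_inv] at this
  have h2 := normal_odd_fixes hS hx1 hy1 hxy hxx hyy hcomm hp N hodd h1
  calc g • h • p = h • ((h⁻¹ * g * h) • p) := by
        simp only [mul_smul, smul_inv_smul]
    _ = h • p := by rw [h2]

/-- `O_{2'}(G)` is the kernel of the action. -/
theorem pPrimeCore_eq_normalCore [Finite G] (hS : Cfsg.IsRankOneSetup G Ω a t Q)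
    (h2 : ∃ x y : G, x ≠ 1 ∧ y ≠ 1 ∧ x ≠ y ∧ x * x = 1 ∧ y * y = 1 ∧ x * y = y * x) :
    Cfsg.pPrimeCore 2 G = (stabilizer G a).normalCore := by
  apply le_antisymm
  · apply sSup_le
    rintro N ⟨hN, hcop⟩
    rw [Subgroup.normal_le_normalCore]
    exact normal_odd_le_stab hS h2 N (Nat.coprime_two_right.mp hcop)
  · apply le_sSup
    refine ⟨Subgroup.normalCore_normal _, ?_⟩
    rw [Nat.coprime_two_right]
    have hle : (stabilizer G a).normalCore ≤ stabilizer G a ⊓ stabilizer G (t • a) := by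
      intro g hg
      refine ⟨Subgroup.normalCore_le _ hg, ?_⟩
      show g ∈ stabilizer G (t • a)
      have h1 : t⁻¹ * g * t ∈ (stabilizer G a).normalCore := by
        have := (Subgroup.normalCore_normal (stabilizer G a)).conj_mem g hg t⁻¹
        rwa [inv_inv] at this
      have h3 := mem_stabilizer_iff.mp (Subgroup.normalCore_le _ h1)
      rw [mem_stabilizer_iff]
      calc g • t • a = t • ((t⁻¹ * g * t) • a) := by simp only [mul_smul, smul_inv_smul]
        _ = t • a := by rw [h3]
    exact Odd.of_dvd_nat hS.odd_card (Subgroup.card_dvd_of_le hle)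

end Setup

end Cfsg.Agent.Helper19
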