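import Cfsg.Agent.Helper19.RankOne4

set_option autoImplicit false

/-!
Conjugating the rank-one set-up; centralisers of subsets of `D` fixing at least three points.
-/

namespace Cfsg.Agent.Helper19

open MulAction
open scoped Pointwise

section Setup

variable {G Ω : Type*} [Group G] [MulAction G Ω] {a : Ω} {t : G} {Q : Subgroup G}

/-- The rank-one set-up can be conjugated by any element. -/
theorem conj_setup (hS : Cfsg.IsRankOneSetup G Ω a t Q) (g : G) :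
    Cfsg.IsRankOneSetup G Ω (g • a) (g * t * g⁻¹) (Q.map (MulAut.conj g).toMonoidHom) := by
  have hstab : ∀ c : Ω, stabilizer G (g • c) = (stabilizer G c).map (MulAut.conj g).toMonoidHom :=
    fun c => stabilizer_smul_eq_stabilizer_map_conj g c
  have hta : (g * t * g⁻¹) • (g • a) = g • (t • a) := by simp [mul_smul]
  have hinj : Function.Injective (MulAut.conj g).toMonoidHom := (MulAut.conj g).injective
  refine ⟨hS.two_transitive, conj_mul_self hS.mul_self g, conj_ne_one hS.ne_one g, ?_, ?_, ?_, ?_, ?_,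
    ?_, ?_⟩
  · rw [hstab]
    rintro ⟨x, hx, hxt⟩
    have : x = t := by
      apply hinj
      rw [hxt]; rfl
    rw [this] at hx
    exact hS.not_mem hx
  · rw [hstab]; exact Subgroup.map_mono hS.le
  · intro h hh x hx
    rw [hstab] at hh
    obtain ⟨h', hh', rfl⟩ := hh
    obtain ⟨x', hx', rfl⟩ := hx
    exact ⟨h' * x' * h'⁻¹, hS.conj_mem h' hh' x' hx', by simp [mul_assoc]⟩
  · rw [hta, hstab, ← Subgroup.map_inf _ _ _ hinj, hS.inf_eq_bot, Subgroup.map_bot]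
  · rw [hta, hstab, hstab, ← Subgroup.map_inf _ _ _ hinj, ← Subgroup.map_sup, hS.sup_eq]
  · rw [Subgroup.card_map_of_injective hinj]; exact hS.even_card
  · rw [hta, hstab, hstab, ← Subgroup.map_inf _ _ _ hinj, Subgroup.card_map_of_injective hinj]
    exact hS.odd_card

/-- The rank-one set-up at the point `t • a`. -/
theorem conj_setup_t (hS : Cfsg.IsRankOneSetup G Ω a t Q) :
    Cfsg.IsRankOneSetup G Ω (t • a) t (Q.map (MulAut.conj t).toMonoidHom) := by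
  have h := conj_setup hS t
  rwa [mul_inv_cancel_right] at h

/-- If `X ⊆ G_a` fixes `c, c' ≠ a`, the element of `Q` taking `c` to `c'` centralises `X`. -/
theorem centQ_trans (hS : Cfsg.IsRankOneSetup G Ω a t Q) {X : Set G}
    (hX : X ⊆ (stabilizer G a : Set G)) {c c' : Ω} (hc : c ≠ a) (hc' : c' ≠ a)
    (hcX : ∀ x ∈ X, x • c = c) (hc'X : ∀ x ∈ X, x • c' = c') :
    ∃ q ∈ Subgroup.centralizer X ⊓ Q, q • c = c' := by
  obtain ⟨q, hq, hqc⟩ := Q_trans hS hc hc'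
  refine ⟨q, ⟨?_, hq⟩, hqc⟩
  show q ∈ Subgroup.centralizer X
  rw [Subgroup.mem_centralizer_iff]
  intro x hx
  have h1 : x * q * x⁻¹ ∈ Q := hS.conj_mem x (hX hx) q hq
  have h2 : (x * q * x⁻¹) • c = q • c := by
    rw [mul_smul, mul_smul, inv_smul_eq_iff.mpr (hcX x hx).symm, hqc, hc'X x hx]
  have h3 : x * q * x⁻¹ = q := Q_smul_eq_imp hS h1 hq hc h2
  calc x * q = (x * q * x⁻¹) * x := by group
    _ = q * x := by rw [h3]

theorem exists_third {α : Type*} (P : α → Prop) {b c d : α} (hbc : b ≠ c) (hbd : b ≠ d) (hcd : c ≠ d)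
    (hb : P b) (hc : P c) (hd : P d) (p q : α) : ∃ e, P e ∧ e ≠ p ∧ e ≠ q := by
  by_cases h1 : b ≠ p ∧ b ≠ q
  · exact ⟨b, hb, h1⟩
  by_cases h2 : c ≠ p ∧ c ≠ q
  · exact ⟨c, hc, h2⟩
  refine ⟨d, hd, ?_, ?_⟩
  · rintro rfl
    rw [not_and_or, not_not, not_not] at h1 h2
    rcases h1 with h1 | h1 <;> rcases h2 with h2 | h2
    · exact hbd h1
    · exact hbd h1
    · exact hcd h2
    · exact hbc (h1.trans h2.symm)
  · rintro rfl
    rw [not_and_or, not_not, not_not] at h1 h2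
    rcases h1 with h1 | h1 <;> rcases h2 with h2 | h2
    · exact hbc (h1.trans h2.symm)
    · exact hcd h2
    · exact hbd h1
    · exact hbd h1

/-- The centraliser of `X ⊆ D` (fixing a third point) can move any fixed point of `X` to `a`. -/
theorem cent_move_to_a (hS : Cfsg.IsRankOneSetup G Ω a t Q) {X : Set G}
    (hX : X ⊆ ((stabilizer G a ⊓ stabilizer G (t • a) : Subgroup G) : Set G))
    {d : Ω} (hdX : ∀ x ∈ X, x • d = d) (hda : d ≠ a) (hdb : d ≠ t • a)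
    {c : Ω} (hcX : ∀ x ∈ X, x • c = c) : ∃ g ∈ Subgroup.centralizer X, g • c = a := by
  have hXa : X ⊆ (stabilizer G a : Set G) := fun x hx => (hX hx).1
  have hXb : X ⊆ (stabilizer G (t • a) : Set G) := fun x hx => (hX hx).2
  have haX : ∀ x ∈ X, x • a = a := fun x hx => mem_stabilizer_iff.mp (hXa hx)
  have hbX : ∀ x ∈ X, x • (t • a) = t • a := fun x hx => mem_stabilizer_iff.mp (hXb hx)
  have hS' := conj_setup_t hS
  by_cases hca : c = a
  · exact ⟨1, Subgroup.one_mem _, by rw [one_smul, hca]⟩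
  by_cases hcb : c = t • a
  · obtain ⟨q₁, hq₁, hq₁c⟩ := centQ_trans hS hXa (ta_ne hS) hda hbX hdX
    obtain ⟨q₂, hq₂, hq₂c⟩ := centQ_trans hS' hXb hdb (ta_ne hS).symm hdX haX
    refine ⟨q₂ * q₁, Subgroup.mul_mem _ hq₂.1 hq₁.1, ?_⟩
    rw [mul_smul, hcb, hq₁c, hq₂c]
  · obtain ⟨q₂, hq₂, hq₂c⟩ := centQ_trans hS' hXb hcb (ta_ne hS).symm hcX haX
    exact ⟨q₂, hq₂.1, hq₂c⟩

theorem cent_smul_fixed {X : Set G} {g : G} (hg : g ∈ Subgroup.centralizer X) {c : Ω}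
    (hcX : ∀ x ∈ X, x • c = c) : ∀ x ∈ X, x • (g • c) = g • c := by
  intro x hx
  rw [← mul_smul, (Subgroup.mem_centralizer_iff.mp hg) x hx, mul_smul, hcX x hx]

/-- `C_G(X)` is doubly transitive on the fixed points of `X`. -/
theorem cent_two_trans (hS : Cfsg.IsRankOneSetup G Ω a t Q) {X : Set G}
    (hX : X ⊆ ((stabilizer G a ⊓ stabilizer G (t • a) : Subgroup G) : Set G))
    {d : Ω} (hdX : ∀ x ∈ X, x • d = d) (hda : d ≠ a) (hdb : d ≠ t • a)
    {b₁ b₂ c₁ c₂ : Ω} (hb₁ : ∀ x ∈ X, x • b₁ = b₁) (hb₂ : ∀ x ∈ X, x • b₂ = b₂)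
    (hc₁ : ∀ x ∈ X, x • c₁ = c₁) (hc₂ : ∀ x ∈ X, x • c₂ = c₂) (hb : b₁ ≠ b₂) (hc : c₁ ≠ c₂) :
    ∃ g ∈ Subgroup.centralizer X, g • b₁ = c₁ ∧ g • b₂ = c₂ := by
  have hXa : X ⊆ (stabilizer G a : Set G) := fun x hx => (hX hx).1
  obtain ⟨g₁, hg₁, hg₁b⟩ := cent_move_to_a hS hX hdX hda hdb hb₁
  obtain ⟨h₁, hh₁, hh₁c⟩ := cent_move_to_a hS hX hdX hda hdb hc₁
  have h1 : g₁ • b₂ ≠ a := by
    intro h
    exact hb (smul_left_cancel g₁ (hg₁b.trans h.symm))
  have h2 : h₁ • c₂ ≠ a := by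
    intro h
    exact hc (smul_left_cancel h₁ (hh₁c.trans h.symm))
  obtain ⟨q, hq, hqc⟩ := centQ_trans hS hXa h1 h2 (cent_smul_fixed hg₁ hb₂) (cent_smul_fixed hh₁ hc₂)
  refine ⟨h₁⁻¹ * q * g₁, Subgroup.mul_mem _ (Subgroup.mul_mem _ (Subgroup.inv_mem _ hh₁) hq.1) hg₁,
    ?_, ?_⟩
  · rw [mul_smul, mul_smul, hg₁b, Q_smul_a hS hq.2, inv_smul_eq_iff, hh₁c]
  · rw [mul_smul, mul_smul, hqc, inv_smul_smul]

theorem pow_card_eq_one_of_mem [Finite G] (H : Subgroup G) {x : G} (hx : x ∈ H) :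
    x ^ Nat.card H = 1 := by
  have h0 : (⟨x, hx⟩ : H) ^ (Nat.card H) = 1 := pow_card_eq_one'
  have h2 := congrArg Subtype.val h0
  rwa [Subgroup.coe_pow, Subgroup.coe_one] at h2

/-- `C_G(X)` contains an involution swapping `a` and `t • a`. -/
theorem cent_swap_invol [Finite G] (hS : Cfsg.IsRankOneSetup G Ω a t Q) {X : Set G}
    (hX : X ⊆ ((stabilizer G a ⊓ stabilizer G (t • a) : Subgroup G) : Set G))
    {d : Ω} (hdX : ∀ x ∈ X, x • d = d) (hda : d ≠ a) (hdb : d ≠ t • a) :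
    ∃ u ∈ Subgroup.centralizer X, u * u = 1 ∧ u • a = t • a := by
  have haX : ∀ x ∈ X, x • a = a := fun x hx => mem_stabilizer_iff.mp (hX hx).1
  have hbX : ∀ x ∈ X, x • (t • a) = t • a := fun x hx => mem_stabilizer_iff.mp (hX hx).2
  obtain ⟨g, hg, hga, hgb⟩ := cent_two_trans hS hX hdX hda hdb haX hbX hbX haX (ta_ne hS).symm (ta_ne hS)
  have hggD : g * g ∈ stabilizer G a ⊓ stabilizer G (t • a) := by
    refine ⟨?_, ?_⟩
    · show g * g ∈ stabilizer G a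
      rw [mem_stabilizer_iff, mul_smul, hga, hgb]
    · show g * g ∈ stabilizer G (t • a)
      rw [mem_stabilizer_iff, mul_smul, hgb, hga]
  obtain ⟨j, hj⟩ := hS.odd_card
  refine ⟨g ^ (2 * j + 1), Subgroup.pow_mem _ hg _, ?_, ?_⟩
  · rw [← pow_add, ← two_mul, pow_mul, pow_two, ← hj]
    exact pow_card_eq_one_of_mem _ hggD
  · rw [pow_succ, pow_mul, pow_two, mul_smul, hga]
    exact mem_stabilizer_iff.mp (Subgroup.pow_mem _ hggD j).2

/-- `|C_Q(X)|` is even. -/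
theorem even_card_centQ [Finite G] (hS : Cfsg.IsRankOneSetup G Ω a t Q) {X : Set G}
    (hX : X ⊆ ((stabilizer G a ⊓ stabilizer G (t • a) : Subgroup G) : Set G))
    {d : Ω} (hdX : ∀ x ∈ X, x • d = d) (hda : d ≠ a) (hdb : d ≠ t • a) :
    ∃ z ∈ Subgroup.centralizer X ⊓ Q, z ≠ 1 ∧ z * z = 1 := by
  obtain ⟨u, hu, huu, hua⟩ := cent_swap_invol hS hX hdX hda hdb
  have hu1 : u ≠ 1 := by
    rintro rfl
    rw [one_smul] at hua
    exact ta_ne hS hua.symm
  obtain ⟨p, hp⟩ := invol_fixed_exists hS huu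
  have hpX : ∀ x ∈ X, x • p = p := fun x hx =>
    invol_fixed_of_commute hS huu hu1 ((Subgroup.mem_centralizer_iff.mp hu) x hx).symm hp
  obtain ⟨h, hh, hhp⟩ := cent_move_to_a hS hX hdX hda hdb hpX
  have hza : (h * u * h⁻¹) • a = a := by
    rw [mul_smul, mul_smul, ← hhp, inv_smul_smul, hp]
  refine ⟨h * u * h⁻¹, ⟨?_, ?_⟩, conj_ne_one hu1 h, conj_mul_self huu h⟩
  · exact Subgroup.mul_mem _ (Subgroup.mul_mem _ hh hu) (Subgroup.inv_mem _ hh)
  · exact invol_mem_Q hS (mem_stabilizer_iff.mpr hza) (conj_mul_self huu h)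

/-- `C_{G_a}(X) = C_Q(X) C_D(X)`. -/
theorem cent_stab_eq_sup (hS : Cfsg.IsRankOneSetup G Ω a t Q) {X : Set G}
    (hX : X ⊆ ((stabilizer G a ⊓ stabilizer G (t • a) : Subgroup G) : Set G)) :
    (Subgroup.centralizer X ⊓ Q) ⊔
        (Subgroup.centralizer X ⊓ (stabilizer G a ⊓ stabilizer G (t • a))) =
      Subgroup.centralizer X ⊓ stabilizer G a := by
  have hXa : X ⊆ (stabilizer G a : Set G) := fun x hx => (hX hx).1
  have hbX : ∀ x ∈ X, x • (t • a) = t • a := fun x hx => mem_stabilizer_iff.mp (hX hx).2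
  apply le_antisymm
  · exact sup_le (inf_le_inf_left _ hS.le) (inf_le_inf_left _ inf_le_left)
  · rintro g ⟨hgC, hga⟩
    have hga' : g • a = a := mem_stabilizer_iff.mp hga
    have h1 : g • (t • a) ≠ a := by
      intro h
      exact ta_ne hS (smul_left_cancel g (h.trans hga'.symm))
    obtain ⟨q, hq, hqb⟩ := centQ_trans hS hXa (ta_ne hS) h1 hbX (cent_smul_fixed hgC hbX)
    have hd : q⁻¹ * g ∈ Subgroup.centralizer X ⊓ (stabilizer G a ⊓ stabilizer G (t • a)) := by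
      refine ⟨Subgroup.mul_mem _ (Subgroup.inv_mem _ hq.1) hgC, ⟨?_, ?_⟩⟩
      · exact Subgroup.mul_mem _ (Subgroup.inv_mem _ (hS.le hq.2)) hga
      · show q⁻¹ * g ∈ stabilizer G (t • a)
        rw [mem_stabilizer_iff, mul_smul, ← hqb, inv_smul_smul]
    have : g = q * (q⁻¹ * g) := by group
    rw [this]
    exact Subgroup.mul_mem_sup hq hd

/-- Summary for subsets of `D` fixing at least three points. -/
theorem cent_three_points (X : Set G)
    (h3 : ∃ b c d : Ω, b ≠ c ∧ b ≠ d ∧ c ≠ d ∧ ∀ x ∈ X, x • b = b ∧ x • c = c ∧ x • d = d) :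
    ∃ e : Ω, (∀ x ∈ X, x • e = e) ∧ e ≠ a ∧ e ≠ t • a := by
  obtain ⟨b, c, d, hbc, hbd, hcd, hfix⟩ := h3
  exact exists_third (fun e => ∀ x ∈ X, x • e = e) hbc hbd hcd (fun x hx => (hfix x hx).1)
    (fun x hx => (hfix x hx).2.1) (fun x hx => (hfix x hx).2.2) a (t • a)

theorem even_card_centQ' [Finite G] (hS : Cfsg.IsRankOneSetup G Ω a t Q) {X : Set G}
    (hX : X ⊆ ((stabilizer G a ⊓ stabilizer G (t • a) : Subgroup G) : Set G))
    {d : Ω} (hdX : ∀ x ∈ X, x • d = d) (hda : d ≠ a) (hdb : d ≠ t • a) :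
    Even (Nat.card ↥(Subgroup.centralizer X ⊓ Q)) := by
  obtain ⟨z, hz, hz1, hzz⟩ := even_card_centQ hS hX hdX hda hdb
  have h2 : orderOf z = 2 := orderOf_eq_prime (by rw [pow_two, hzz]) hz1
  rw [even_iff_two_dvd, ← h2]
  exact orderOf_dvd_card_of_mem _ hz

end Setup

end Cfsg.Agent.Helper19
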