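import Cfsg.Agent.Helper19.RankOne5

set_option autoImplicit false

/-!
Involutions swapping `a` and `t • a` are `D`-conjugate to `t`; consequences.
-/

namespace Cfsg.Agent.Helper19

open MulAction
open scoped Pointwise

section Setup

variable {G Ω : Type*} [Group G] [MulAction G Ω] {a : Ω} {t : G} {Q : Subgroup G}

/-- An involution swapping `a` and `t • a` is conjugate to `t` by an element of `K`. -/
theorem swap_invol_eq_conj_t [Finite G] (hS : Cfsg.IsRankOneSetup G Ω a t Q) {u : G}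
    (huu : u * u = 1) (hua : u • a = t • a) :
    ∃ k₁ ∈ Cfsg.invertedBy (stabilizer G a ⊓ stabilizer G (t • a)) t, u = k₁ * t * k₁⁻¹ := by
  have htt := hS.mul_self
  have htinv := t_inv hS
  have huinv : u⁻¹ = u := inv_eq_self_of_mul_self huu
  have hub : u • (t • a) = a := by rw [← hua, ← mul_smul, huu, one_smul]
  have hk₀D : u * t ∈ stabilizer G a ⊓ stabilizer G (t • a) := by
    refine ⟨?_, ?_⟩
    · show u * t ∈ stabilizer G a
      rw [mem_stabilizer_iff, mul_smul, hub]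
    · show u * t ∈ stabilizer G (t • a)
      rw [mem_stabilizer_iff, mul_smul, t_smul_t_smul hS, hua]
  have hk₀inv : t * (u * t) * t⁻¹ = (u * t)⁻¹ := by
    rw [mul_inv_rev, htinv, huinv]
    have : t * (u * t) * t = t * u * (t * t) := by group
    rw [this, htt, mul_one]
  obtain ⟨j, hj⟩ := hS.odd_card
  have hpow : (u * t) ^ (2 * j + 1) = 1 := by
    rw [← hj]; exact pow_card_eq_one_of_mem _ hk₀D
  have hk₁D : (u * t) ^ (j + 1) ∈ stabilizer G a ⊓ stabilizer G (t • a) := Subgroup.pow_mem _ hk₀D _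
  have hk₁sq : (u * t) ^ (j + 1) * (u * t) ^ (j + 1) = u * t := by
    rw [← pow_add, show j + 1 + (j + 1) = (2 * j + 1) + 1 by ring, pow_succ, hpow, one_mul]
  have hk₁inv : t * (u * t) ^ (j + 1) * t⁻¹ = ((u * t) ^ (j + 1))⁻¹ := by
    rw [← conj_pow, hk₀inv, inv_pow]
  refine ⟨(u * t) ^ (j + 1), ⟨hk₁D, hk₁inv⟩, ?_⟩
  set k₁ := (u * t) ^ (j + 1) with hk₁
  have h1 : t * k₁⁻¹ = k₁ * t := by
    have : t * k₁⁻¹ = (t * k₁ * t⁻¹)⁻¹ * t := by group
    rw [this, hk₁inv, inv_inv]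
  calc u = (u * t) * t := by rw [mul_assoc, htt, mul_one]
    _ = k₁ * k₁ * t := by rw [hk₁sq]
    _ = k₁ * (k₁ * t) := by group
    _ = k₁ * (t * k₁⁻¹) := by rw [h1]
    _ = k₁ * t * k₁⁻¹ := by group

/-- A subset of `D` fixing three points is `D`-conjugate into `C_D(t)`. -/
theorem conj_into_cent_t [Finite G] (hS : Cfsg.IsRankOneSetup G Ω a t Q) (X : Set G)
    (hX : X ⊆ ((stabilizer G a ⊓ stabilizer G (t • a) : Subgroup G) : Set G))
    (h3 : ∃ b c d : Ω, b ≠ c ∧ b ≠ d ∧ c ≠ d ∧ ∀ x ∈ X, x • b = b ∧ x • c = c ∧ x • d = d) :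
    ∃ k ∈ (stabilizer G a ⊓ stabilizer G (t • a)),
      ∀ x ∈ X, (k * x * k⁻¹) * t = t * (k * x * k⁻¹) := by
  obtain ⟨e, heX, hea, heb⟩ := cent_three_points X h3
  obtain ⟨u, hu, huu, hua⟩ := cent_swap_invol hS hX heX hea heb
  obtain ⟨k₁, hk₁, huk⟩ := swap_invol_eq_conj_t hS huu hua
  refine ⟨k₁⁻¹, Subgroup.inv_mem _ hk₁.1, ?_⟩
  intro x hx
  have h1 : x * u = u * x := (Subgroup.mem_centralizer_iff.mp hu) x hx
  rw [huk] at h1
  rw [inv_inv]
  calc k₁⁻¹ * x * k₁ * t = k₁⁻¹ * (x * (k₁ * t * k₁⁻¹)) * k₁ := by group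
    _ = k₁⁻¹ * ((k₁ * t * k₁⁻¹) * x) * k₁ := by rw [h1]
    _ = t * (k₁⁻¹ * x * k₁) := by group

/-- Non-identity elements of `D` inverted by `t` act fixed-point-freely on `Q`. -/
theorem K_fixed_point_free [Finite G] (hS : Cfsg.IsRankOneSetup G Ω a t Q) {x : G}
    (hx : x ∈ Cfsg.invertedBy (stabilizer G a ⊓ stabilizer G (t • a)) t) (hx1 : x ≠ 1) :
    Q ⊓ Subgroup.centralizer {x} = ⊥ := by
  rw [Subgroup.eq_bot_iff_forall]
  rintro q ⟨hqQ, hqC⟩
  by_contra hq1
  have hqx : x * q = q * x := (Subgroup.mem_centralizer_iff.mp hqC) x rfl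
  have hX : ({x} : Set G) ⊆ ((stabilizer G a ⊓ stabilizer G (t • a) : Subgroup G) : Set G) := by
    rintro _ rfl; exact hx.1
  have hxb : x • (t • a) = t • a := mem_stabilizer_iff.mp hx.1.2
  have heX : ∀ y ∈ ({x} : Set G), y • (q • (t • a)) = q • (t • a) := by
    rintro _ rfl
    rw [← mul_smul, hqx, mul_smul, hxb]
  have hea : q • (t • a) ≠ a := by
    intro h
    have h2 : t • a = q⁻¹ • a := by rw [eq_inv_smul_iff]; exact h
    rw [Q_smul_a hS (Q.inv_mem hqQ)] at h2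
    exact ta_ne hS h2
  have heb : q • (t • a) ≠ t • a := fun h => hq1 (Q_free hS hqQ (ta_ne hS) h)
  obtain ⟨z, hz, hz1, hzz⟩ := even_card_centQ hS hX heX hea heb
  have hzx : x * z = z * x := (Subgroup.mem_centralizer_iff.mp hz.1) x rfl
  -- S = {x, x⁻¹}
  have hzS : z ∈ Subgroup.centralizer ({x, x⁻¹} : Set G) := by
    rw [Subgroup.mem_centralizer_iff]
    intro h hh
    rcases hh with hh | hh
    · rw [hh]; exact hzx
    · rw [Set.mem_singleton_iff] at hh
      rw [hh]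
      exact ((show Commute x z from hzx).inv_left).eq
  have htx : t * x * t⁻¹ = x⁻¹ := hx.2
  have htx' : t * x⁻¹ * t⁻¹ = x := by
    have : t * x⁻¹ * t⁻¹ = (t * x * t⁻¹)⁻¹ := by group
    rw [this, htx, inv_inv]
  have htS : t ∈ Subgroup.normalizer ({x, x⁻¹} : Set G) := by
    rw [Subgroup.mem_set_normalizer_iff]
    intro h
    constructor
    · rintro (rfl | rfl)
      · right; exact htx
      · left; exact htx'
    · have hconj2 : ∀ y : G, t⁻¹ * y * t = t * y * t⁻¹ := by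
        intro y; rw [t_inv hS]
      rintro (h1 | h1)
      · right
        have hh : h = t⁻¹ * (t * h * t⁻¹) * t := by group
        rw [h1, hconj2, htx] at hh
        exact hh
      · left
        have hh : h = t⁻¹ * (t * h * t⁻¹) * t := by group
        rw [h1, hconj2, htx'] at hh
        exact hh
  have hzN : z ∈ Subgroup.normalizer ({x, x⁻¹} : Set G) := Subgroup.centralizer_le_normalizer _ hzS
  have hza : z ∈ stabilizer G a := hS.le hz.2
  obtain ⟨m, hm⟩ := odd_orderOf_mul hS hza hz1 hzz hS.not_mem hS.mul_self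
  have hpow : (z * t) ^ (2 * m + 1) = 1 := by rw [← hm, pow_orderOf_eq_one]
  have hconj := invol_conj_of_odd hzz hS.mul_self hpow
  have hwN : ((z * t)⁻¹) ^ (m + 1) ∈ Subgroup.normalizer ({x, x⁻¹} : Set G) :=
    Subgroup.pow_mem _ (Subgroup.inv_mem _ (Subgroup.mul_mem _ hzN htS)) _
  have hnormal := Subgroup.normal_subgroupOf_centralizer_normalizer ({x, x⁻¹} : Set G)
  have htC : t ∈ Subgroup.centralizer ({x, x⁻¹} : Set G) := by
    rw [← hconj]
    exact (Subgroup.normal_subgroupOf_iff (Subgroup.centralizer_le_normalizer _)).mp hnormal _ _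
      hzS hwN
  have hxt : x * t = t * x := (Subgroup.mem_centralizer_iff.mp htC) x (Or.inl rfl)
  have hxx : x * x = 1 := by
    have : x⁻¹ = x := by
      rw [← htx, ← hxt]; group
    calc x * x = x⁻¹ * x := by rw [this]
      _ = 1 := inv_mul_cancel x
  exact hx1 (eq_one_of_mul_self_of_odd _ hS.odd_card hx.1 hxx)

end Setup

end Cfsg.Agent.Helper19
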