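import Cfsg.Agent.Helper19.RankOne6
import Cfsg.Agent.S1124

set_option autoImplicit false

/-!
Centralisers in `D` of `t`, of the distinguished involution, of `K` and of the involutions of `G_a`.
-/

namespace Cfsg.Agent.Helper19

open MulAction
open scoped Pointwise

section Setup

variable {G Ω : Type*} [Group G] [MulAction G Ω] {a : Ω} {t : G} {Q : Subgroup G}

theorem orderOf_t (hS : Cfsg.IsRankOneSetup G Ω a t Q) : orderOf t = 2 :=
  orderOf_eq_prime (by rw [pow_two, hS.mul_self]) hS.ne_one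

theorem t_normalizes_D (hS : Cfsg.IsRankOneSetup G Ω a t Q) :
    ∀ x ∈ stabilizer G a ⊓ stabilizer G (t • a),
      t * x * t⁻¹ ∈ stabilizer G a ⊓ stabilizer G (t • a) := by
  intro x hx
  have h1 : x • a = a := mem_stabilizer_iff.mp hx.1
  have h2 : x • (t • a) = t • a := mem_stabilizer_iff.mp hx.2
  refine ⟨?_, ?_⟩
  · show t * x * t⁻¹ ∈ stabilizer G a
    rw [mem_stabilizer_iff, t_inv hS, mul_smul, mul_smul, h2, t_smul_t_smul hS]
  · show t * x * t⁻¹ ∈ stabilizer G (t • a)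
    rw [mem_stabilizer_iff, t_inv hS, mul_smul, mul_smul, t_smul_t_smul hS, h1]

/-- `|D| = |C_D(t)| |K|`. -/
theorem card_D_eq_cent_t_mul_K [Finite G] (hS : Cfsg.IsRankOneSetup G Ω a t Q) :
    Nat.card ↥(stabilizer G a ⊓ stabilizer G (t • a)) =
      Nat.card ↥((stabilizer G a ⊓ stabilizer G (t • a)) ⊓ Subgroup.centralizer {t}) *
        Nat.card (Cfsg.invertedBy (stabilizer G a ⊓ stabilizer G (t • a)) t) :=
  (Cfsg.Agent.S1124.result t (orderOf_t hS) _ hS.odd_card (t_normalizes_D hS)).2.1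

/-- `|D| = |C_D(s)| |K|` for an involution `s` of `G_a`. -/
theorem card_D_eq_cent_s_mul_K [Finite G] (hS : Cfsg.IsRankOneSetup G Ω a t Q) {s : G}
    (hs : s ∈ Cfsg.involutionsIn (stabilizer G a : Set G)) :
    Nat.card ↥(stabilizer G a ⊓ stabilizer G (t • a)) =
      Nat.card ↥((stabilizer G a ⊓ stabilizer G (t • a)) ⊓ Subgroup.centralizer {s}) *
        Nat.card (Cfsg.invertedBy (stabilizer G a ⊓ stabilizer G (t • a)) t) := by
  rw [← Nat.card_prod]
  symm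
  let f : ↥((stabilizer G a ⊓ stabilizer G (t • a)) ⊓ Subgroup.centralizer {s}) ×
      ↥(Cfsg.invertedBy (stabilizer G a ⊓ stabilizer G (t • a)) t) →
      ↥(stabilizer G a ⊓ stabilizer G (t • a)) :=
    fun p => ⟨(p.1 : G) * (p.2 : G), Subgroup.mul_mem _ p.1.2.1 p.2.2.1⟩
  have hcomm : ∀ c : G, c ∈ Subgroup.centralizer {s} → c⁻¹ * s * c = s := by
    intro c hc
    have : s * c = c * s := (Subgroup.mem_centralizer_iff.mp hc) s rfl
    calc c⁻¹ * s * c = c⁻¹ * (s * c) := by group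
      _ = c⁻¹ * (c * s) := by rw [this]
      _ = s := by group
  refine Nat.card_congr (Equiv.ofBijective f ⟨?_, ?_⟩)
  · rintro ⟨⟨c₁, hc₁⟩, ⟨k₁, hk₁⟩⟩ ⟨⟨c₂, hc₂⟩, ⟨k₂, hk₂⟩⟩ h
    have hx : c₁ * k₁ = c₂ * k₂ := congrArg Subtype.val h
    have e1 : k₁⁻¹ * s * k₁ = (c₁ * k₁)⁻¹ * s * (c₁ * k₁) := by
      have : (c₁ * k₁)⁻¹ * s * (c₁ * k₁) = k₁⁻¹ * (c₁⁻¹ * s * c₁) * k₁ := by group
      rw [this, hcomm c₁ hc₁.2]
    have e2 : k₂⁻¹ * s * k₂ = (c₂ * k₂)⁻¹ * s * (c₂ * k₂) := by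
      have : (c₂ * k₂)⁻¹ * s * (c₂ * k₂) = k₂⁻¹ * (c₂⁻¹ * s * c₂) * k₂ := by group
      rw [this, hcomm c₂ hc₂.2]
    have hk : k₁ = k₂ := K_conj_inj hS hs hk₁ hk₂ (by rw [e1, e2, hx])
    subst hk
    have hc : c₁ = c₂ := mul_right_cancel hx
    subst hc
    rfl
  · rintro ⟨d, hd⟩
    have hs' := conj_mem_involutionsIn hs hd.1
    obtain ⟨k, hk, hks⟩ := exists_K_conj hS hs hs'
    have h1 : (d * k⁻¹)⁻¹ * s * (d * k⁻¹) = s := by
      calc (d * k⁻¹)⁻¹ * s * (d * k⁻¹) = k * (d⁻¹ * s * d) * k⁻¹ := by group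
        _ = k * (k⁻¹ * s * k) * k⁻¹ := by rw [hks]
        _ = s := by group
    have hcC : d * k⁻¹ ∈ Subgroup.centralizer {s} := by
      rw [Subgroup.mem_centralizer_iff]
      intro h hh
      rw [Set.mem_singleton_iff] at hh
      rw [hh]
      calc s * (d * k⁻¹) = (d * k⁻¹) * ((d * k⁻¹)⁻¹ * s * (d * k⁻¹)) := by group
        _ = d * k⁻¹ * s := by rw [h1]
    refine ⟨(⟨d * k⁻¹, ⟨Subgroup.mul_mem _ hd (Subgroup.inv_mem _ hk.1), hcC⟩⟩, ⟨k, hk⟩), ?_⟩
    apply Subtype.ext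
    show d * k⁻¹ * k = d
    group

theorem one_mem_K (a : Ω) (t : G) :
    (1 : G) ∈ Cfsg.invertedBy (stabilizer G a ⊓ stabilizer G (t • a)) t :=
  ⟨Subgroup.one_mem _, by simp⟩

theorem card_K_pos [Finite G] (a : Ω) (t : G) :
    0 < Nat.card (Cfsg.invertedBy (stabilizer G a ⊓ stabilizer G (t • a)) t) := by
  have : Nonempty (Cfsg.invertedBy (stabilizer G a ⊓ stabilizer G (t • a)) t) := ⟨⟨1, one_mem_K a t⟩⟩
  exact Nat.card_pos

/-- If `t s t = r⁻¹ t r` then `C_D(t) ≤ C_D(s)`. -/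
theorem cent_t_le_cent_s [Finite G] (hS : Cfsg.IsRankOneSetup G Ω a t Q) {s r : G}
    (hs : s ∈ Cfsg.involutionsIn (stabilizer G a : Set G)) (hr : r ∈ Q)
    (heq : t * s * t = r⁻¹ * t * r) :
    (stabilizer G a ⊓ stabilizer G (t • a)) ⊓ Subgroup.centralizer {t} ≤
      (stabilizer G a ⊓ stabilizer G (t • a)) ⊓ Subgroup.centralizer {s} := by
  rintro d ⟨hdD, hdt⟩
  refine ⟨hdD, ?_⟩
  have htd : t * d = d * t := (Subgroup.mem_centralizer_iff.mp hdt) t rfl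
  have htd' : t * d⁻¹ = d⁻¹ * t := ((show Commute t d from htd).inv_right).eq
  have hs' : d * s * d⁻¹ ∈ Cfsg.involutionsIn (stabilizer G a : Set G) := by
    have := conj_mem_involutionsIn hs (Subgroup.inv_mem _ hdD.1)
    rwa [inv_inv] at this
  have hr' : d * r * d⁻¹ ∈ Q := hS.conj_mem d hdD.1 r hr
  have heq' : t * (d * s * d⁻¹) * t = (d * r * d⁻¹)⁻¹ * t * (d * r * d⁻¹) := by
    calc t * (d * s * d⁻¹) * t = (t * d) * s * (d⁻¹ * t) := by group
      _ = (d * t) * s * (t * d⁻¹) := by rw [htd, htd']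
      _ = d * (t * s * t) * d⁻¹ := by group
      _ = d * (r⁻¹ * t * r) * d⁻¹ := by rw [heq]
      _ = d * r⁻¹ * (t * d⁻¹ * d) * r * d⁻¹ := by group
      _ = d * r⁻¹ * (d⁻¹ * t * d) * r * d⁻¹ := by rw [htd']
      _ = (d * r * d⁻¹)⁻¹ * t * (d * r * d⁻¹) := by group
  obtain ⟨p, -, hp⟩ := structure_equation hS
  have e1 := hp (s, r) ⟨hs, hr, heq⟩
  have e2 := hp (d * s * d⁻¹, d * r * d⁻¹) ⟨hs', hr', heq'⟩
  have e3 : d * s * d⁻¹ = s := congrArg Prod.fst (e2.trans e1.symm)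
  refine Subgroup.mem_centralizer_iff.mpr ?_
  intro h hh
  rw [Set.mem_singleton_iff] at hh
  rw [hh]
  calc s * d = (d * s * d⁻¹) * d := by rw [e3]
    _ = d * s := by group

/-- If `t s t = r⁻¹ t r` then `C_D(t) = C_D(s)`. -/
theorem cent_t_eq_cent_s [Finite G] (hS : Cfsg.IsRankOneSetup G Ω a t Q) {s r : G}
    (hs : s ∈ Cfsg.involutionsIn (stabilizer G a : Set G)) (hr : r ∈ Q)
    (heq : t * s * t = r⁻¹ * t * r) :
    (stabilizer G a ⊓ stabilizer G (t • a)) ⊓ Subgroup.centralizer {t} =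
      (stabilizer G a ⊓ stabilizer G (t • a)) ⊓ Subgroup.centralizer {s} := by
  apply Subgroup.eq_of_le_of_card_ge (cent_t_le_cent_s hS hs hr heq)
  have h1 := card_D_eq_cent_t_mul_K hS
  have h2 := card_D_eq_cent_s_mul_K hS hs
  rw [h1] at h2
  exact le_of_eq (Nat.eq_of_mul_eq_mul_right (card_K_pos a t) h2).symm

/-- `C_D(t) ⊓ C_D(K) = C_D(I ∩ G_a)`. -/
theorem cent_t_inf_cent_K [Finite G] (hS : Cfsg.IsRankOneSetup G Ω a t Q) :
    (stabilizer G a ⊓ stabilizer G (t • a)) ⊓ Subgroup.centralizer {t} ⊓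
        Subgroup.centralizer (Cfsg.invertedBy (stabilizer G a ⊓ stabilizer G (t • a)) t) =
      (stabilizer G a ⊓ stabilizer G (t • a)) ⊓
        Subgroup.centralizer (Cfsg.involutionsIn (stabilizer G a : Set G)) := by
  obtain ⟨⟨s, r⟩, ⟨hs, hr, heq⟩, -⟩ := structure_equation hS
  simp only at hs hr heq
  have hts := cent_t_eq_cent_s hS hs hr heq
  apply le_antisymm
  · rintro d ⟨hdt, hdK⟩
    refine ⟨hdt.1, ?_⟩
    have hds : d ∈ Subgroup.centralizer {s} := by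
      have : d ∈ (stabilizer G a ⊓ stabilizer G (t • a)) ⊓ Subgroup.centralizer {s} := hts ▸ hdt
      exact this.2
    have hsd : Commute s d := (Subgroup.mem_centralizer_iff.mp hds) s rfl
    refine Subgroup.mem_centralizer_iff.mpr ?_
    intro s' hs'
    obtain ⟨k, hk, hks⟩ := exists_K_conj hS hs hs'
    have hkd : Commute k d := (Subgroup.mem_centralizer_iff.mp hdK) k hk
    rw [← hks]
    exact ((hkd.inv_left.mul_left hsd).mul_left hkd).eq
  · rintro d ⟨hdD, hdI⟩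
    have hsd : Commute s d := (Subgroup.mem_centralizer_iff.mp hdI) s hs
    have hds : d ∈ (stabilizer G a ⊓ stabilizer G (t • a)) ⊓ Subgroup.centralizer {s} := by
      refine ⟨hdD, ?_⟩
      refine Subgroup.mem_centralizer_iff.mpr ?_
      intro h hh
      rw [Set.mem_singleton_iff] at hh
      rw [hh]; exact hsd.eq
    have hdt : d ∈ (stabilizer G a ⊓ stabilizer G (t • a)) ⊓ Subgroup.centralizer {t} := hts ▸ hds
    refine ⟨hdt, ?_⟩
    have htd : Commute t d := (Subgroup.mem_centralizer_iff.mp hdt.2) t rfl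
    refine Subgroup.mem_centralizer_iff.mpr ?_
    intro k hk
    -- d k d⁻¹ ∈ K and conjugates s to the same involution as k
    have hk' : d * k * d⁻¹ ∈ Cfsg.invertedBy (stabilizer G a ⊓ stabilizer G (t • a)) t := by
      refine ⟨Subgroup.mul_mem _ (Subgroup.mul_mem _ hdD hk.1) (Subgroup.inv_mem _ hdD), ?_⟩
      have h1 : t * (d * k * d⁻¹) * t⁻¹ = (t * d * t⁻¹) * (t * k * t⁻¹) * (t * d * t⁻¹)⁻¹ := by group
      have h2 : t * d * t⁻¹ = d := by rw [htd.eq]; group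
      rw [h1, h2, hk.2]; group
    have hs' := conj_mem_involutionsIn hs hk.1.1
    have hcomm : Commute (k⁻¹ * s * k) d := (Subgroup.mem_centralizer_iff.mp hdI) _ hs'
    have h3 : (d * k * d⁻¹)⁻¹ * s * (d * k * d⁻¹) = k⁻¹ * s * k := by
      calc (d * k * d⁻¹)⁻¹ * s * (d * k * d⁻¹) = d * k⁻¹ * (d⁻¹ * (s * d)) * k * d⁻¹ := by group
        _ = d * k⁻¹ * (d⁻¹ * (d * s)) * k * d⁻¹ := by rw [hsd.eq]
        _ = d * ((k⁻¹ * s * k) * d⁻¹) := by group
        _ = d * (d⁻¹ * (k⁻¹ * s * k)) := by rw [(hcomm.inv_right).eq]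
        _ = k⁻¹ * s * k := by group
    have h4 : d * k * d⁻¹ = k := K_conj_inj hS hs hk' hk h3
    calc k * d = (d * k * d⁻¹) * d := by rw [h4]
      _ = d * k := by group

end Setup

end Cfsg.Agent.Helper19
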