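import Cfsg.Agent.Helper19.RankOne7

set_option autoImplicit false

/-!
Fusion of subsets of `V = C_D(t)`.
-/

namespace Cfsg.Agent.Helper19

open MulAction
open scoped Pointwise

section Setup

variable {G Ω : Type*} [Group G] [MulAction G Ω] {a : Ω} {t : G} {Q : Subgroup G}

/-- Refinement of `swap_invol_eq_conj_t`: the conjugating element commutes with everything
commuting with `u` and `t`. -/
theorem swap_invol_eq_conj_t' [Finite G] (hS : Cfsg.IsRankOneSetup G Ω a t Q) {u : G}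
    (huu : u * u = 1) (hua : u • a = t • a) :
    ∃ k₁ ∈ Cfsg.invertedBy (stabilizer G a ⊓ stabilizer G (t • a)) t, u = k₁ * t * k₁⁻¹ ∧
      ∀ x : G, Commute x u → Commute x t → Commute x k₁ := by
  have htt := hS.mul_self
  have htinv := t_inv hS
  have huinv : u⁻¹ = u := inv_eq_self_of_mul_self huu
  have hub : u • (t • a) = a := by rw [← hua, ← mul_smul, huu, one_smul]
  have hk₀D : u * t ∈ stabilizer G a ⊓ stabilizer G (t • a) := by
    refine ⟨?_, ?_⟩
    · show u * t ∈ stabilizer G a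
      rw [mem_stabilizer_iff, mul_smul, hub]
    · show u * t ∈ stabilizer G (t • a)
      rw [mem_stabilizer_iff, mul_smul, t_smul_t_smul hS, hua]
  have hk₀inv : t * (u * t) * t⁻¹ = (u * t)⁻¹ := by
    rw [mul_inv_rev, htinv, huinv]
    have : t * (u * t) * t = t * u * (t * t) := by group
    rw [this, htt, mul_one]
  obtain ⟨j, hj⟩ := hS.odd_card
  have hpow : (u * t) ^ (2 * j + 1) = 1 := by
    rw [← hj]; exact pow_card_eq_one_of_mem _ hk₀D
  have hk₁D : (u * t) ^ (j + 1) ∈ stabilizer G a ⊓ stabilizer G (t • a) := Subgroup.pow_mem _ hk₀D _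
  have hk₁sq : (u * t) ^ (j + 1) * (u * t) ^ (j + 1) = u * t := by
    rw [← pow_add, show j + 1 + (j + 1) = (2 * j + 1) + 1 by ring, pow_succ, hpow, one_mul]
  have hk₁inv : t * (u * t) ^ (j + 1) * t⁻¹ = ((u * t) ^ (j + 1))⁻¹ := by
    rw [← conj_pow, hk₀inv, inv_pow]
  refine ⟨(u * t) ^ (j + 1), ⟨hk₁D, hk₁inv⟩, ?_, fun x h1 h2 => (h1.mul_right h2).pow_right _⟩
  set k₁ := (u * t) ^ (j + 1) with hk₁
  have h1 : t * k₁⁻¹ = k₁ * t := by
    have : t * k₁⁻¹ = (t * k₁ * t⁻¹)⁻¹ * t := by group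
    rw [this, hk₁inv, inv_inv]
  calc u = (u * t) * t := by rw [mul_assoc, htt, mul_one]
    _ = k₁ * k₁ * t := by rw [hk₁sq]
    _ = k₁ * (k₁ * t) := by group
    _ = k₁ * (t * k₁⁻¹) := by rw [h1]
    _ = k₁ * t * k₁⁻¹ := by group

/-- Elements of `V = C_D(t)` fix the fixed point of `t`. -/
theorem V_fixes [Finite G] (hS : Cfsg.IsRankOneSetup G Ω a t Q) {c : Ω} (hc : t • c = c)
    {X : Set G}
    (hX : X ⊆ (((stabilizer G a ⊓ stabilizer G (t • a)) ⊓ Subgroup.centralizer {t} : Subgroup G) : Set G)) :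
    ∀ x ∈ X, x • c = c := by
  intro x hx
  have h1 : t * x = x * t := (Subgroup.mem_centralizer_iff.mp (hX hx).2) t rfl
  exact invol_fixed_of_commute hS hS.mul_self hS.ne_one h1 hc

/-- Subsets of `V` conjugate in `G` are conjugate in `V` (by an element inducing the same map). -/
theorem fusion_in_V [Finite G] (hS : Cfsg.IsRankOneSetup G Ω a t Q) (X : Set G)
    (hX : X ⊆ (((stabilizer G a ⊓ stabilizer G (t • a)) ⊓ Subgroup.centralizer {t} : Subgroup G) : Set G))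
    (g : G)
    (hY : (fun x => g * x * g⁻¹) '' X ⊆
      (((stabilizer G a ⊓ stabilizer G (t • a)) ⊓ Subgroup.centralizer {t} : Subgroup G) : Set G)) :
    ∃ v ∈ (stabilizer G a ⊓ stabilizer G (t • a)) ⊓ Subgroup.centralizer {t},
      ∀ x ∈ X, v * x * v⁻¹ = g * x * g⁻¹ := by
  obtain ⟨c, hc, hca⟩ := exists_t_fixed hS
  have hcb : c ≠ t • a := by
    intro h
    rw [h, t_smul_t_smul hS] at hc
    exact ta_ne hS hc.symm
  set Y : Set G := (fun x => g * x * g⁻¹) '' X with hYdef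
  have hYD : Y ⊆ ((stabilizer G a ⊓ stabilizer G (t • a) : Subgroup G) : Set G) :=
    fun y hy => (hY hy).1
  have hYc : ∀ y ∈ Y, y • c = c := V_fixes hS hc hY
  have hYa : ∀ y ∈ Y, y • a = a := fun y hy => mem_stabilizer_iff.mp (hYD hy).1
  have hYb : ∀ y ∈ Y, y • (t • a) = t • a := fun y hy => mem_stabilizer_iff.mp (hYD hy).2
  have hXa : ∀ x ∈ X, x • a = a := fun x hx => mem_stabilizer_iff.mp (hX hx).1.1
  have hXb : ∀ x ∈ X, x • (t • a) = t • a := fun x hx => mem_stabilizer_iff.mp (hX hx).1.2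
  have hYga : ∀ y ∈ Y, y • (g • a) = g • a := by
    rintro _ ⟨x, hx, rfl⟩
    rw [mul_smul, mul_smul, inv_smul_smul, hXa x hx]
  have hYgb : ∀ y ∈ Y, y • (g • (t • a)) = g • (t • a) := by
    rintro _ ⟨x, hx, rfl⟩
    rw [mul_smul, mul_smul, inv_smul_smul, hXb x hx]
  have hne : g • a ≠ g • (t • a) := fun h => ta_ne hS (smul_left_cancel g h).symm
  obtain ⟨h, hh, hha, hhb⟩ := cent_two_trans hS hYD hYc hca hcb hYga hYgb hYa hYb hne (ta_ne hS).symm
  -- g' = h * g ∈ D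
  have hg'D : h * g ∈ stabilizer G a ⊓ stabilizer G (t • a) := by
    refine ⟨?_, ?_⟩
    · show h * g ∈ stabilizer G a
      rw [mem_stabilizer_iff, mul_smul, hha]
    · show h * g ∈ stabilizer G (t • a)
      rw [mem_stabilizer_iff, mul_smul, hhb]
  have hg'x : ∀ x ∈ X, (h * g) * x * (h * g)⁻¹ = g * x * g⁻¹ := by
    intro x hx
    have hy : g * x * g⁻¹ ∈ Y := ⟨x, hx, rfl⟩
    have hcomm : (g * x * g⁻¹) * h = h * (g * x * g⁻¹) := (Subgroup.mem_centralizer_iff.mp hh) _ hy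
    calc (h * g) * x * (h * g)⁻¹ = h * (g * x * g⁻¹) * h⁻¹ := by group
      _ = (g * x * g⁻¹) * h * h⁻¹ := by rw [hcomm]
      _ = g * x * g⁻¹ := by group
  set g' := h * g with hg'
  -- t' = g'⁻¹ t g'
  have ht't' : (g'⁻¹ * t * g') * (g'⁻¹ * t * g') = 1 := by
    have := conj_mul_self hS.mul_self g'⁻¹
    rwa [inv_inv] at this
  have hg'inva : g'⁻¹ • a = a := by
    rw [inv_smul_eq_iff]; exact (mem_stabilizer_iff.mp hg'D.1).symm
  have hg'invb : g'⁻¹ • (t • a) = t • a := by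
    rw [inv_smul_eq_iff]; exact (mem_stabilizer_iff.mp hg'D.2).symm
  have ht'a : (g'⁻¹ * t * g') • a = t • a := by
    rw [mul_smul, mul_smul, mem_stabilizer_iff.mp hg'D.1, hg'invb]
  have ht'X : ∀ x ∈ X, Commute x (g'⁻¹ * t * g') := by
    intro x hx
    have hy : g * x * g⁻¹ ∈ Y := ⟨x, hx, rfl⟩
    have h1 : t * (g * x * g⁻¹) = (g * x * g⁻¹) * t := (Subgroup.mem_centralizer_iff.mp (hY hy).2) t rfl
    rw [← hg'x x hx] at h1
    show x * (g'⁻¹ * t * g') = (g'⁻¹ * t * g') * x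
    calc x * (g'⁻¹ * t * g') = g'⁻¹ * ((g' * x * g'⁻¹) * t) * g' := by group
      _ = g'⁻¹ * (t * (g' * x * g'⁻¹)) * g' := by rw [h1]
      _ = (g'⁻¹ * t * g') * x := by group
  have htX : ∀ x ∈ X, Commute x t := by
    intro x hx
    exact ((Subgroup.mem_centralizer_iff.mp (hX hx).2) t rfl).symm
  obtain ⟨k₁, hk₁, hk₁t, hk₁c⟩ := swap_invol_eq_conj_t' hS ht't' ht'a
  refine ⟨g' * k₁, ⟨Subgroup.mul_mem _ hg'D hk₁.1, ?_⟩, ?_⟩
  · refine Subgroup.mem_centralizer_iff.mpr ?_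
    intro y hy
    rw [Set.mem_singleton_iff] at hy
    rw [hy]
    -- (g' k₁) t (g' k₁)⁻¹ = t
    have h1 : (g' * k₁) * t * (g' * k₁)⁻¹ = t := by
      calc (g' * k₁) * t * (g' * k₁)⁻¹ = g' * (k₁ * t * k₁⁻¹) * g'⁻¹ := by group
        _ = g' * (g'⁻¹ * t * g') * g'⁻¹ := by rw [← hk₁t]
        _ = t := by group
    calc t * (g' * k₁) = ((g' * k₁) * t * (g' * k₁)⁻¹) * (g' * k₁) := by rw [h1]
      _ = g' * k₁ * t := by group
  · intro x hx
    have hc1 : Commute x k₁ := hk₁c x (ht'X x hx) (htX x hx)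
    calc g' * k₁ * x * (g' * k₁)⁻¹ = g' * (k₁ * x) * k₁⁻¹ * g'⁻¹ := by group
      _ = g' * (x * k₁) * k₁⁻¹ * g'⁻¹ := by rw [hc1.eq]
      _ = g' * x * g'⁻¹ := by group
      _ = g * x * g⁻¹ := hg'x x hx

end Setup

end Cfsg.Agent.Helper19
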