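import Cfsg.Agent.Helper19.RankOne8

set_option autoImplicit false

/-!
Involutions of `G_a` are central in `Q` (no nilpotency needed).
-/

namespace Cfsg.Agent.Helper19

open MulAction
open scoped Pointwise

section Setup

variable {G Ω : Type*} [Group G] [MulAction G Ω] {a : Ω} {t : G} {Q : Subgroup G}

theorem K_inv_mem {k : G}
    (hk : k ∈ Cfsg.invertedBy (stabilizer G a ⊓ stabilizer G (t • a)) t) :
    k⁻¹ ∈ Cfsg.invertedBy (stabilizer G a ⊓ stabilizer G (t • a)) t := by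
  refine ⟨Subgroup.inv_mem _ hk.1, ?_⟩
  have h := hk.2
  calc t * k⁻¹ * t⁻¹ = (t * k * t⁻¹)⁻¹ := by group
    _ = (k⁻¹)⁻¹ := by rw [h]

/-- Every element of the coset `Q k` (`k ∈ K`, `k ≠ 1`) is `Q`-conjugate to `k`. -/
theorem coset_K_conj [Finite G] (hS : Cfsg.IsRankOneSetup G Ω a t Q) {k : G}
    (hk : k ∈ Cfsg.invertedBy (stabilizer G a ⊓ stabilizer G (t • a)) t) (hk1 : k ≠ 1)
    {q : G} (hq : q ∈ Q) : ∃ y ∈ Q, y * k * y⁻¹ = q * k := by
  have hka : k ∈ stabilizer G a := hk.1.1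
  have hfp := K_fixed_point_free hS hk hk1
  let f : Q → Q := fun y => ⟨(y : G) * (k * (y : G)⁻¹ * k⁻¹),
    Q.mul_mem y.2 (hS.conj_mem k hka _ (Q.inv_mem y.2))⟩
  have hinj : Function.Injective f := by
    intro y₁ y₂ h
    have h' : (y₁ : G) * (k * (y₁ : G)⁻¹ * k⁻¹) = (y₂ : G) * (k * (y₂ : G)⁻¹ * k⁻¹) :=
      congrArg Subtype.val h
    have hc : (y₂ : G)⁻¹ * (y₁ : G) ∈ Q ⊓ Subgroup.centralizer {k} := by
      refine ⟨Q.mul_mem (Q.inv_mem y₂.2) y₁.2, ?_⟩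
      refine Subgroup.mem_centralizer_iff.mpr ?_
      intro h hh
      have hh' : h = k := hh
      rw [hh']
      have e1 : (y₂ : G)⁻¹ * (y₁ : G) = k * ((y₂ : G)⁻¹ * (y₁ : G)) * k⁻¹ := by
        have : (y₂ : G)⁻¹ * ((y₁ : G) * (k * (y₁ : G)⁻¹ * k⁻¹)) * (k * (y₁ : G) * k⁻¹)
            = (y₂ : G)⁻¹ * ((y₂ : G) * (k * (y₂ : G)⁻¹ * k⁻¹)) * (k * (y₁ : G) * k⁻¹) := by
          rw [h']
        calc (y₂ : G)⁻¹ * (y₁ : G)
            = (y₂ : G)⁻¹ * ((y₁ : G) * (k * (y₁ : G)⁻¹ * k⁻¹)) * (k * (y₁ : G) * k⁻¹) := by group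
          _ = (y₂ : G)⁻¹ * ((y₂ : G) * (k * (y₂ : G)⁻¹ * k⁻¹)) * (k * (y₁ : G) * k⁻¹) := this
          _ = k * ((y₂ : G)⁻¹ * (y₁ : G)) * k⁻¹ := by group
      calc k * ((y₂ : G)⁻¹ * (y₁ : G)) = k * ((y₂ : G)⁻¹ * (y₁ : G)) * k⁻¹ * k := by group
        _ = (y₂ : G)⁻¹ * (y₁ : G) * k := by rw [← e1]
    rw [hfp, Subgroup.mem_bot] at hc
    apply Subtype.ext
    calc (y₁ : G) = (y₂ : G) * ((y₂ : G)⁻¹ * (y₁ : G)) := by group
      _ = (y₂ : G) := by rw [hc, mul_one]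
  have hsurj : Function.Surjective f := Finite.injective_iff_surjective.mp hinj
  obtain ⟨y, hy⟩ := hsurj ⟨q, hq⟩
  have hy' : (y : G) * (k * (y : G)⁻¹ * k⁻¹) = q := congrArg Subtype.val hy
  refine ⟨y, y.2, ?_⟩
  rw [← hy']; group

/-- Involutions of `G_a` are central in `Q`. -/
theorem invol_central [Finite G] (hS : Cfsg.IsRankOneSetup G Ω a t Q) {s : G}
    (hs : s ∈ Cfsg.involutionsIn (stabilizer G a : Set G)) {x : G} (hx : x ∈ Q) :
    s * x = x * s := by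
  have hxa : x ∈ stabilizer G a := hS.le hx
  have hs' : x⁻¹ * s * x ∈ Cfsg.involutionsIn (stabilizer G a : Set G) :=
    conj_mem_involutionsIn hs hxa
  obtain ⟨k, hk, hkeq⟩ := exists_K_conj hS hs hs'
  by_cases hk1 : k = 1
  · subst hk1
    have h1 : s = x⁻¹ * s * x := by simpa using hkeq
    calc s * x = x * (x⁻¹ * s * x) := by group
      _ = x * s := by rw [← h1]
  · exfalso
    have hkinv := K_inv_mem hk
    have hkinv1 : k⁻¹ ≠ 1 := fun h => hk1 (inv_eq_one.mp h)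
    obtain ⟨y, hy, hyeq⟩ := coset_K_conj hS hkinv hkinv1 hx
    -- `x * k⁻¹` centralizes `s`
    have hz : (x * k⁻¹) * s = s * (x * k⁻¹) := by
      have : s = k * (k⁻¹ * s * k) * k⁻¹ := by group
      calc (x * k⁻¹) * s = x * (k⁻¹ * s * k) * k⁻¹ := by group
        _ = x * (x⁻¹ * s * x) * k⁻¹ := by rw [hkeq]
        _ = s * (x * k⁻¹) := by group
    have hc : y⁻¹ * s * y ∈ Q ⊓ Subgroup.centralizer {k⁻¹} := by
      have hsQ : s ∈ Q := invol_mem_Q hS hs.1 hs.2.2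
      refine ⟨Q.mul_mem (Q.mul_mem (Q.inv_mem hy) hsQ) hy, ?_⟩
      refine Subgroup.mem_centralizer_iff.mpr ?_
      intro h hh
      have hh' : h = k⁻¹ := hh
      rw [hh']
      have e : k⁻¹ = y⁻¹ * (x * k⁻¹) * y := by rw [← hyeq]; group
      calc k⁻¹ * (y⁻¹ * s * y) = y⁻¹ * (x * k⁻¹) * y * (y⁻¹ * s * y) := by rw [← e]
        _ = y⁻¹ * ((x * k⁻¹) * s) * y := by group
        _ = y⁻¹ * (s * (x * k⁻¹)) * y := by rw [hz]
        _ = y⁻¹ * s * y * (y⁻¹ * (x * k⁻¹) * y) := by group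
        _ = y⁻¹ * s * y * k⁻¹ := by rw [← e]
    rw [K_fixed_point_free hS hkinv hkinv1, Subgroup.mem_bot] at hc
    apply hs.2.1
    calc s = y * (y⁻¹ * s * y) * y⁻¹ := by group
      _ = 1 := by rw [hc]; group

/-- Two involutions of `G_a` commute. -/
theorem invol_commute [Finite G] (hS : Cfsg.IsRankOneSetup G Ω a t Q) {s s' : G}
    (hs : s ∈ Cfsg.involutionsIn (stabilizer G a : Set G))
    (hs' : s' ∈ Cfsg.involutionsIn (stabilizer G a : Set G)) : s * s' = s' * s :=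
  invol_central hS hs (invol_mem_Q hS hs'.1 hs'.2.2)

/-- The product of two involutions of `G_a` is `1` or an involution of `G_a`. -/
theorem invol_mul [Finite G] (hS : Cfsg.IsRankOneSetup G Ω a t Q) {s s' : G}
    (hs : s ∈ Cfsg.involutionsIn (stabilizer G a : Set G))
    (hs' : s' ∈ Cfsg.involutionsIn (stabilizer G a : Set G)) :
    s * s' = 1 ∨ s * s' ∈ Cfsg.involutionsIn (stabilizer G a : Set G) := by
  by_cases h : s * s' = 1
  · exact Or.inl h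
  · refine Or.inr ⟨Subgroup.mul_mem _ hs.1 hs'.1, h, ?_⟩
    have hc := invol_commute hS hs hs'
    calc s * s' * (s * s') = s * (s' * s) * s' := by group
      _ = s * (s * s') * s' := by rw [hc]
      _ = (s * s) * (s' * s') := by group
      _ = 1 := by rw [hs.2.2, hs'.2.2, one_mul]

end Setup

end Cfsg.Agent.Helper19
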