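import Mathlib
import Cfsg.Agent.Helper96.SLPresDefs
import Cfsg.Agent.Helper96.StPresF

/-!
The words `PW` evaluated in `SL₂`: for `h = diag(z, z⁻¹)` and `u = [[1, 1], [0, 1]]` the word of a polynomial
`f` over the prime field is the unitriangular matrix with entry `f(z²)`.
-/

set_option autoImplicit false

namespace Cfsg.Agent.Helper19.SLPresPW

open Polynomial Cfsg.Agent.Helper96.StemSLTwo Cfsg.Agent.Helper96.StPres Cfsg.Agent.Helper96.SLPres

theorem uz_dMat_uMat {F : Type*} [Field F] (z : F) (hz : z ≠ 0) (a : F) (i : ℕ) :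
    uz (dMat z hz) (uMat F a) (i : ℤ) = uMat F ((z ^ 2) ^ i * a) := by
  induction i with
  | zero => simp [uz_zero]
  | succ i ih =>
    rw [Nat.cast_succ, ← uz_succ, ih, dMat_conj]
    congr 1
    ring

theorem uMat_pow {F : Type*} [Field F] (a : F) (n : ℕ) : uMat F a ^ n = uMat F ((n : F) * a) := by
  induction n with
  | zero => simp [uMat_zero]
  | succ n ih =>
    rw [pow_succ, ih, ← uMat_add]
    congr 1
    push_cast
    ring

theorem uMat_list_prod {F : Type*} [Field F] (l : List F) : (l.map (uMat F)).prod = uMat F l.sum := by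
  induction l with
  | nil => simp [uMat_zero]
  | cons a l ih => rw [List.map_cons, List.prod_cons, ih, List.sum_cons, uMat_add]

end Cfsg.Agent.Helper19.SLPresPW

namespace Cfsg.Agent.Helper96.SLPres

open Polynomial Cfsg.Agent.Helper96.StemSLTwo Cfsg.Agent.Helper96.StPres Cfsg.Agent.Helper19.SLPresPW

theorem PW_SL {p : ℕ} [Fact p.Prime] {F : Type*} [Field F] [Algebra (ZMod p) F] (z : F) (hz : z ≠ 0)
    (f : (ZMod p)[X]) :
    PW p (Cfsg.Agent.Helper96.StemSLTwo.dMat z hz) (Cfsg.Agent.Helper96.StemSLTwo.uMat F 1) f =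
      Cfsg.Agent.Helper96.StemSLTwo.uMat F (aeval (z ^ 2) f) := by
  unfold PW
  have h1 : ((List.range (f.natDegree + 1)).map fun i : ℕ =>
      uz (dMat z hz) (uMat F 1) (i : ℤ) ^ (f.coeff i).val) =
      ((List.range (f.natDegree + 1)).map fun i : ℕ => (((f.coeff i).val : F) * (z ^ 2) ^ i)).map (uMat F) := by
    rw [List.map_map]
    apply List.map_congr_left
    intro i _
    simp only [Function.comp]
    rw [uz_dMat_uMat, uMat_pow, mul_one]
  rw [h1, uMat_list_prod]
  congr 1
  rw [aeval_eq_sum_range, ← List.sum_toFinset _ (List.nodup_range), List.toFinset_range]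
  apply Finset.sum_congr rfl
  intro i _
  rw [Algebra.smul_def]
  congr 1
  conv_rhs => rw [← ZMod.natCast_zmod_val (f.coeff i)]
  rw [map_natCast]

end Cfsg.Agent.Helper96.SLPres
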