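import Mathlib
import Cfsg.Agent.Helper96.StC.Basic

/-!
# Piece (M) for S2092 (helper96): the symplectic root matrices lie in `Sp_{2m}(K)` and satisfy
the Steinberg relations of type `C`.
-/

set_option autoImplicit false

namespace Cfsg.Agent.Helper19.StCM

open Matrix Cfsg.Agent.Helper96.StN Cfsg.Agent.Helper96.StC

universe u v

section general

variable {K : Type u} [Field K] {ι : Type v} [DecidableEq ι] [Fintype ι]

set_option linter.unusedSectionVars false
set_option linter.unusedSimpArgs false

/-- the sign of an index: `-1` on the left, `1` on the right (`J p (bar p) = sg p`) -/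
def sg (K : Type u) [Field K] (p : ι ⊕ ι) : K := if p.isLeft then -1 else 1

theorem J_apply (p q : ι ⊕ ι) : Matrix.J ι K p q = if q = bar p then sg K p else 0 := by
  rcases p with p | p <;> rcases q with q | q <;>
    simp [Matrix.J, sg, Matrix.one_apply, eq_comm, apply_ite]

theorem single_mul_J (p q : ι ⊕ ι) (t : K) :
    Matrix.single p q t * Matrix.J ι K = Matrix.single p (bar q) (t * sg K q) := by
  ext x y
  by_cases hx : x = p
  · subst hx
    rw [Matrix.single_mul_apply_same, J_apply, Matrix.single_apply]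
    by_cases hy : y = bar q
    · subst hy; simp
    · simp [hy, Ne.symm hy]
  · rw [Matrix.single_mul_apply_of_ne _ _ _ _ _ hx, Matrix.single_apply]
    simp [Ne.symm hx]

theorem J_mul_single (p q : ι ⊕ ι) (t : K) :
    Matrix.J ι K * Matrix.single p q t = Matrix.single (bar p) q (sg K (bar p) * t) := by
  ext x y
  by_cases hy : y = q
  · subst hy
    rw [Matrix.mul_single_apply_same, J_apply, Matrix.single_apply]
    by_cases hx : x = bar p
    · subst hx; simp
    · have : ¬ p = bar x := fun e => hx (by rw [e, bar_bar])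
      simp [hx, Ne.symm hx, this]
  · rw [Matrix.mul_single_apply_of_ne _ _ _ _ _ hy, Matrix.single_apply]
    simp [Ne.symm hy]

theorem sg_bar (p : ι ⊕ ι) : sg K (bar p) = - sg K p := by
  rcases p with p | p <;> simp [sg]

theorem eps_eq_sg (p q : ι ⊕ ι) : eps K p q = sg K p * sg K q := by
  rcases p with p | p <;> rcases q with q | q <;> simp [sg, eps]

theorem sg_mul_self (p : ι ⊕ ι) : sg K p * sg K p = 1 := by
  rcases p with p | p <;> simp [sg]

theorem spM_long (p : ι ⊕ ι) (t : K) : spM p (bar p) t = 1 + Matrix.single p (bar p) t := by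
  unfold spM; rw [if_pos rfl]

theorem spM_short {p q : ι ⊕ ι} (h : q ≠ bar p) (t : K) :
    spM p q t = 1 + Matrix.single p q t - Matrix.single (bar q) (bar p) (eps K p q * t) := by
  unfold spM; rw [if_neg h]

theorem single_mul_single_ite (a b c d : ι ⊕ ι) (t u : K) :
    Matrix.single a b t * Matrix.single c d u = if b = c then Matrix.single a d (t * u) else 0 := by
  by_cases h : b = c
  · subst h; rw [if_pos rfl, Matrix.single_mul_single_same]
  · rw [if_neg h, Matrix.single_mul_single_of_ne _ _ _ _ h]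

theorem spM_mem' (p q : ι ⊕ ι) (hpq : p ≠ q) (t : K) :
    spM p q t ∈ Matrix.symplecticGroup ι K := by
  rw [SymplecticGroup.mem_iff]
  by_cases h : q = bar p
  · subst h
    rw [spM_long]
    have h4 : ¬ p = bar p := (bar_ne p).symm
    simp only [Matrix.transpose_add, Matrix.transpose_one,
      Matrix.transpose_single, add_mul, one_mul,
      mul_add, mul_one, single_mul_J, J_mul_single, single_mul_single_ite,
      bar_bar, sg_bar, h4, if_false]
    rw [add_zero, add_assoc, ← Matrix.single_add]
    have e : t * -sg K p + sg K p * t = 0 := by ring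
    rw [e, Matrix.single_zero, add_zero]
  · rw [spM_short h]
    have h1 : ¬ bar q = q := bar_ne q
    have h2 : ¬ bar q = bar p := fun e => hpq (bar_injective e).symm
    have h3 : ¬ p = q := hpq
    have h4 : ¬ p = bar p := (bar_ne p).symm
    simp only [Matrix.transpose_add, Matrix.transpose_sub, Matrix.transpose_one,
      Matrix.transpose_single, add_mul, sub_mul, one_mul,
      mul_add, mul_sub, mul_one, single_mul_J, J_mul_single, single_mul_single_ite,
      bar_bar, sg_bar, h1, h2, h3, h4, if_false, eps_eq_sg]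
    have e1 : sg K (bar q) * t = -(sg K q * t) := by rw [sg_bar]; ring
    have e2 : sg K p * (sg K p * sg K q * t) = sg K q * t := by
      rw [← mul_assoc, ← mul_assoc, sg_mul_self, one_mul]
    have e3 : sg K p * sg K q * t * -sg K p = -(sg K q * t) := by
      have := sg_mul_self (K := K) p
      linear_combination (-(sg K q * t)) * this
    simp only [sg_bar, e2, e3, sub_zero, add_zero, mul_neg, neg_mul]
    rw [mul_comm t (sg K q)]
    abel

/-- the matrix unit, as an atom for the final linear algebra step -/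
def EE (a b : ι ⊕ ι) : Matrix (ι ⊕ ι) (ι ⊕ ι) K := Matrix.single a b 1

theorem single_eq_smul_EE (a b : ι ⊕ ι) (c : K) : Matrix.single a b c = c • EE a b := by
  unfold EE
  rw [Matrix.smul_single, smul_eq_mul, mul_one]

theorem spM_mul_rel (p q s : ι ⊕ ι) (hpq : p ≠ q) (hqs : q ≠ s) (hps : p ≠ s) (hpq' : p ≠ bar q)
    (hqs' : q ≠ bar s) (hps' : p ≠ bar s) (t u : K) :
    spM p q t * spM q s u * spM p q (-t) * spM q s (-u) = spM p s (t * u) := by
  have hqp := hpq.symm
  have hsq := hqs.symm
  have hsp := hps.symm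
  have hqp' := hpq'.symm
  have hsq' := hqs'.symm
  have hsp' := hps'.symm
  rcases p with p | p <;> rcases q with q | q <;> rcases s with s | s <;>
  simp only [ne_eq, bar_inl, bar_inr, Sum.inl.injEq, Sum.inr.injEq, reduceCtorEq,
    not_false_eq_true, not_true_eq_false] at * <;>
  simp only [spM, eps, bar_inl, bar_inr, Sum.inl.injEq, Sum.inr.injEq, reduceCtorEq, if_false,
    if_true, Sum.isLeft_inl, Sum.isLeft_inr, *] <;>
  simp only [mul_add, add_mul, mul_sub, sub_mul, mul_one, one_mul, single_mul_single_ite,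
    Sum.inl.injEq, Sum.inr.injEq, reduceCtorEq, if_false, if_true, zero_mul, mul_zero, sub_zero,
    add_zero, zero_add, zero_sub, *] <;>
  simp only [single_eq_smul_EE] <;>
  module

theorem spM_r5_rel (p q : ι ⊕ ι) (hpq : p ≠ q) (hpq' : p ≠ bar q) (t u : K) :
    spM p q t * spM q (bar p) u * spM p q (-t) * spM q (bar p) (-u) =
      spM p (bar p) (2 * t * u) := by
  have hqp := hpq.symm
  have hqp' := hpq'.symm
  have hpq'' : q ≠ bar p := fun e => hpq' (by rw [e, bar_bar])
  have hqp'' := hpq''.symm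
  rcases p with p | p <;> rcases q with q | q <;>
  simp only [ne_eq, bar_inl, bar_inr, Sum.inl.injEq, Sum.inr.injEq, reduceCtorEq,
    not_false_eq_true, not_true_eq_false] at * <;>
  simp only [spM, eps, bar_inl, bar_inr, Sum.inl.injEq, Sum.inr.injEq, reduceCtorEq, if_false,
    if_true, Sum.isLeft_inl, Sum.isLeft_inr, eq_self_iff_true, *] <;>
  simp only [mul_add, add_mul, mul_sub, sub_mul, mul_one, one_mul, single_mul_single_ite,
    Sum.inl.injEq, Sum.inr.injEq, reduceCtorEq, if_false, if_true, zero_mul, mul_zero, sub_zero,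
    add_zero, zero_add, zero_sub, eq_self_iff_true, *] <;>
  simp only [single_eq_smul_EE] <;>
  module

theorem spM_r6_rel (p q : ι ⊕ ι) (hpq : p ≠ q) (hpq' : p ≠ bar q) (t u : K) :
    spM p (bar p) t * spM (bar p) q u * spM p (bar p) (-t) * spM (bar p) q (-u) =
      spM p q (t * u) * spM (bar q) q (eps K p q * t * u ^ 2) := by
  have hqp := hpq.symm
  have hqp' := hpq'.symm
  have hpq'' : q ≠ bar p := fun e => hpq' (by rw [e, bar_bar])
  have hqp'' := hpq''.symm
  rcases p with p | p <;> rcases q with q | q <;>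
  simp only [ne_eq, bar_inl, bar_inr, Sum.inl.injEq, Sum.inr.injEq, reduceCtorEq,
    not_false_eq_true, not_true_eq_false] at * <;>
  simp only [spM, eps, bar_inl, bar_inr, Sum.inl.injEq, Sum.inr.injEq, reduceCtorEq, if_false,
    if_true, Sum.isLeft_inl, Sum.isLeft_inr, eq_self_iff_true, *] <;>
  simp only [mul_add, add_mul, mul_sub, sub_mul, mul_one, one_mul, single_mul_single_ite,
    Sum.inl.injEq, Sum.inr.injEq, reduceCtorEq, if_false, if_true, zero_mul, mul_zero, sub_zero,
    add_zero, zero_add, zero_sub, eq_self_iff_true, *] <;>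
  simp only [single_eq_smul_EE] <;>
  module

theorem spM_sym_rel (p q : ι ⊕ ι) (hpq : p ≠ q) (hpq' : q ≠ bar p) (t : K) :
    spM p q t = spM (bar q) (bar p) (-(eps K p q * t)) := by
  have hqp := hpq.symm
  have hqp' := hpq'.symm
  have hpq'' : p ≠ bar q := fun e => hpq' (by rw [e, bar_bar])
  have hqp'' := hpq''.symm
  rcases p with p | p <;> rcases q with q | q <;>
  simp only [ne_eq, bar_inl, bar_inr, Sum.inl.injEq, Sum.inr.injEq, reduceCtorEq,
    not_false_eq_true, not_true_eq_false] at * <;>
  simp only [spM, eps, bar_inl, bar_inr, Sum.inl.injEq, Sum.inr.injEq, reduceCtorEq, if_false,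
    if_true, Sum.isLeft_inl, Sum.isLeft_inr, eq_self_iff_true, *] <;>
  simp only [single_eq_smul_EE] <;>
  module

theorem spM_zero (p q : ι ⊕ ι) : spM p q (0 : K) = 1 := by
  unfold spM
  split_ifs <;> simp

theorem spM_add (p q : ι ⊕ ι) (hpq : p ≠ q) (t u : K) :
    spM p q (t + u) = spM p q t * spM p q u := by
  have h0 : ¬ bar p = p := bar_ne p
  have h1 : ¬ q = p := hpq.symm
  by_cases h : q = bar p
  · subst h
    simp only [spM_long, mul_add, add_mul, mul_one, one_mul, single_mul_single_ite, h0, if_false,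
      add_zero, Matrix.single_add]
    abel
  · have h2 : ¬ bar p = bar q := fun e => hpq (bar_injective e)
    have h3 : ¬ q = bar q := (bar_ne q).symm
    simp only [spM_short h, mul_add, add_mul, mul_sub, sub_mul, mul_one, one_mul,
      single_mul_single_ite, h0, h1, h2, h3, h, if_false, add_zero, sub_zero, Matrix.single_add]
    abel

/-- the nilpotent part of a root matrix -/
def nM (p q : ι ⊕ ι) (t : K) : Matrix (ι ⊕ ι) (ι ⊕ ι) K :=
  if q = bar p then Matrix.single p q t
  else Matrix.single p q t - Matrix.single (bar q) (bar p) (eps K p q * t)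

theorem spM_eq_one_add_nM (p q : ι ⊕ ι) (t : K) : spM p q t = 1 + nM p q t := by
  unfold spM nM
  split_ifs
  · rfl
  · abel

theorem nM_mul_nM (p q r s : ι ⊕ ι) (h1 : q ≠ r) (h2 : q ≠ bar s) (h3 : p ≠ bar r) (h4 : p ≠ s)
    (t u : K) : nM p q t * nM r s u = 0 := by
  have e1 : ¬ q = r := h1
  have e2 : ¬ q = bar s := h2
  have e3 : ¬ bar p = r := fun e => h3 (by rw [← e, bar_bar])
  have e4 : ¬ bar p = bar s := fun e => h4 (bar_injective e)
  unfold nM
  split_ifs <;>
  simp only [mul_sub, sub_mul, single_mul_single_ite, e1, e2, e3, e4, if_false, sub_zero]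

theorem spM_comm_rel (p q r s : ι ⊕ ι) (h1 : q ≠ r) (h2 : q ≠ bar s)
    (h3 : p ≠ bar r) (h4 : p ≠ s) (t u : K) :
    spM p q t * spM r s u = spM r s u * spM p q t := by
  have e1 : nM p q t * nM r s u = 0 := nM_mul_nM p q r s h1 h2 h3 h4 t u
  have e2 : nM r s u * nM p q t = 0 :=
    nM_mul_nM r s p q h4.symm (fun e => h2 (by rw [e, bar_bar]))
      (fun e => h3 (by rw [e, bar_bar])) h1.symm u t
  rw [spM_eq_one_add_nM, spM_eq_one_add_nM]
  simp only [mul_add, add_mul, mul_one, one_mul, e1, e2]
  abel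

end general

section fin

variable {K : Type u} [Field K] {m : ℕ}

theorem spM_mem (p q : Fin m ⊕ Fin m) (hpq : p ≠ q) (t : K) :
    spM p q t ∈ Matrix.symplecticGroup (Fin m) K :=
  spM_mem' p q hpq t

/-- the root elements of `Sp_{2m}(K)` -/
def spT (p q : Fin m ⊕ Fin m) (t : K) : Matrix.symplecticGroup (Fin m) K :=
  if h : p ≠ q then ⟨spM p q t, spM_mem p q h t⟩ else 1

theorem spT_coe {p q : Fin m ⊕ Fin m} (hpq : p ≠ q) (t : K) : (spT p q t).1 = spM p q t := by
  unfold spT
  rw [dif_pos hpq]

theorem spT_mul_coe (a b : Matrix.symplecticGroup (Fin m) K) : (a * b).1 = a.1 * b.1 := rfl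

theorem spT_add {p q : Fin m ⊕ Fin m} (hpq : p ≠ q) (t u : K) :
    spT p q (t + u) = spT p q t * spT p q u := by
  apply Subtype.ext
  rw [spT_mul_coe, spT_coe hpq, spT_coe hpq, spT_coe hpq, spM_add p q hpq]

theorem spT_zero {p q : Fin m ⊕ Fin m} (hpq : p ≠ q) : spT p q (0 : K) = 1 := by
  apply Subtype.ext
  rw [spT_coe hpq, spM_zero]
  rfl

theorem spT_inv {p q : Fin m ⊕ Fin m} (hpq : p ≠ q) (t : K) :
    (spT p q t)⁻¹ = spT p q (-t) := by
  rw [inv_eq_iff_mul_eq_one, ← spT_add hpq, add_neg_cancel, spT_zero hpq]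

theorem spT_spRel : SpRel (fun (p q : Fin m ⊕ Fin m) (t : K) => spT p q t) where
  sym p q hpq hpq' t := by
    have h1 : bar q ≠ bar p := fun e => hpq (bar_injective e).symm
    apply Subtype.ext
    rw [spT_coe hpq, spT_coe h1]
    exact spM_sym_rel p q hpq hpq' t
  add p q hpq t u := spT_add hpq t u
  comm p q r s hpq hrs h1 h2 h3 h4 t u := by
    apply Subtype.ext
    rw [spT_mul_coe, spT_mul_coe, spT_coe hpq, spT_coe hrs]
    exact spM_comm_rel p q r s h1 h2 h3 h4 t u
  mul p q s hpq hqs hps hpq' hqs' hps' t u := by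
    show spT p q t * spT q s u * (spT p q t)⁻¹ * (spT q s u)⁻¹ = spT p s (t * u)
    rw [spT_inv hpq, spT_inv hqs]
    apply Subtype.ext
    rw [spT_mul_coe, spT_mul_coe, spT_mul_coe, spT_coe hpq, spT_coe hqs, spT_coe hpq, spT_coe hqs,
      spT_coe hps]
    exact spM_mul_rel p q s hpq hqs hps hpq' hqs' hps' t u
  r5 p q hpq hpq' t u := by
    have h1 : q ≠ bar p := fun e => hpq' (by rw [e, bar_bar])
    have h2 : p ≠ bar p := (bar_ne p).symm
    show spT p q t * spT q (bar p) u * (spT p q t)⁻¹ * (spT q (bar p) u)⁻¹ =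
      spT p (bar p) (2 * t * u)
    rw [spT_inv hpq, spT_inv h1]
    apply Subtype.ext
    rw [spT_mul_coe, spT_mul_coe, spT_mul_coe, spT_coe hpq, spT_coe h1, spT_coe hpq, spT_coe h1,
      spT_coe h2]
    exact spM_r5_rel p q hpq hpq' t u
  r6 p q hpq hpq' t u := by
    have h1 : bar p ≠ q := fun e => hpq' (by rw [← e, bar_bar])
    have h2 : p ≠ bar p := (bar_ne p).symm
    have h3 : bar q ≠ q := bar_ne q
    show spT p (bar p) t * spT (bar p) q u * (spT p (bar p) t)⁻¹ * (spT (bar p) q u)⁻¹ =
      spT p q (t * u) * spT (bar q) q (eps K p q * t * u ^ 2)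
    rw [spT_inv h2, spT_inv h1]
    apply Subtype.ext
    rw [spT_mul_coe, spT_mul_coe, spT_mul_coe, spT_mul_coe, spT_coe h2, spT_coe h1, spT_coe h2,
      spT_coe h1, spT_coe hpq, spT_coe h3]
    exact spM_r6_rel p q hpq hpq' t u

end fin

end Cfsg.Agent.Helper19.StCM
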